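import Groth.Agent.QuadCliff.Map
import Mathlib.RingTheory.LocalRing.Module
import Mathlib.LinearAlgebra.FreeModule.Finite.Matrix
import Mathlib.Tactic

/-! Over a local ring a regular form of even rank has a generator of the centre of its even Clifford algebra. -/

namespace QuadCliff

open CliffordAlgebra

universe u v

variable {R : Type u} [CommRing R] [IsLocalRing R]

theorem coord_mem_of_polar {V : Type v} [AddCommGroup V] [Module R V] {q : QuadraticForm R V} {n : ℕ}
    (b : Module.Basis (Fin n) R V) (hq : QuadGrp.IsRegular q) (y : V)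
    (h : ∀ z, QuadraticMap.polar q y z ∈ IsLocalRing.maximalIdeal R) (i : Fin n) :
    b.repr y i ∈ IsLocalRing.maximalIdeal R := by
  obtain ⟨z, hz⟩ := hq.2 (b.coord i)
  have := LinearMap.congr_fun hz y
  rw [QuadraticMap.polarBilin_apply_apply, Module.Basis.coord_apply] at this
  rw [← this, QuadraticMap.polar_comm]; exact h z

/-- A regular plane inside a regular form of rank at least two. -/
theorem exists_plane {V : Type v} [AddCommGroup V] [Module R V] {q : QuadraticForm R V} {n : ℕ}
    (b : Module.Basis (Fin n) R V) (hq : QuadGrp.IsRegular q) (hn : 2 ≤ n) :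
    ∃ (e f : V) (μ ν : R), IsUnit μ ∧ μ * QuadraticMap.polar q e f + 2 * ν = 1 ∧
      IsUnit (4 * q e * q f - QuadraticMap.polar q e f ^ 2) := by
  let m := IsLocalRing.maximalIdeal R
  let i0 : Fin n := ⟨0, by omega⟩
  let i1 : Fin n := ⟨1, by omega⟩
  by_cases h2 : IsUnit (2 : R)
  · obtain ⟨r, w, hrw⟩ := exists_sum_eq_one b hq (by omega : 0 < n)
    obtain ⟨v, hv⟩ : ∃ v, IsUnit (q v) := by
      by_contra hall
      push Not at hall
      refine (IsLocalRing.maximalIdeal.isMaximal R).ne_top (Ideal.eq_top_of_isUnit_mem _ ?_ isUnit_one)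
      rw [← hrw]
      exact Ideal.sum_mem _ fun i _ => Ideal.mul_mem_left _ _ (hall _)
    obtain ⟨c, hc⟩ := (h2.mul hv).exists_left_inv
    let π : V → V := fun y => y - (c * QuadraticMap.polar q v y) • v
    have hπ : ∀ y, QuadraticMap.polar q v (π y) = 0 := by
      intro y
      simp only [π, QuadraticMap.polar_sub_right, QuadraticMap.polar_smul_right, QuadraticMap.polar_self,
        smul_eq_mul, two_nsmul]
      linear_combination (-QuadraticMap.polar q v y) * hc
    obtain ⟨y, hy⟩ : ∃ y, IsUnit (q (π y)) := by
      by_contra hall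
      push Not at hall
      have hcoord : ∀ y i, b.repr (π y) i ∈ m := by
        intro y i
        refine coord_mem_of_polar b hq _ (fun z => ?_) i
        have hz : z = π z + (c * QuadraticMap.polar q v z) • v := by simp [π]
        have hsum : π y + π z = π (y + z) := by
          simp only [π, QuadraticMap.polar_add_right, mul_add, add_smul]; abel
        rw [hz, QuadraticMap.polar_add_right, QuadraticMap.polar_smul_right, QuadraticMap.polar_comm q (π y) v,
          hπ, smul_zero, add_zero, QuadraticMap.polar, hsum]
        exact Ideal.sub_mem _ (Ideal.sub_mem _ (hall _) (hall _)) (hall _)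
      have hcong : ∀ i j, (if i = j then (1 : R) else 0) - c * QuadraticMap.polar q v (b i) * b.repr v j ∈ m := by
        intro i j
        have := hcoord (b i) j
        simpa [π, Finsupp.single_apply] using this
      let s : Fin n → R := fun i => c * QuadraticMap.polar q v (b i)
      have a00 : 1 - s i0 * b.repr v i0 ∈ m := by simpa using hcong i0 i0
      have a11 : 1 - s i1 * b.repr v i1 ∈ m := by simpa using hcong i1 i1
      have a01 : 0 - s i0 * b.repr v i1 ∈ m := by simpa [i0, i1] using hcong i0 i1
      refine (IsLocalRing.maximalIdeal.isMaximal R).ne_top (Ideal.eq_top_of_isUnit_mem _ ?_ isUnit_one)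
      have key : (1 : R) = (1 - s i1 * b.repr v i1) + (1 - s i0 * b.repr v i0) * (s i1 * b.repr v i1) -
          (0 - s i0 * b.repr v i1) * (s i1 * b.repr v i0) := by ring
      rw [key]
      exact Ideal.sub_mem _ (Ideal.add_mem _ a11 (Ideal.mul_mem_right _ _ a00)) (Ideal.mul_mem_right _ _ a01)
    obtain ⟨h, hh⟩ := h2.exists_left_inv
    refine ⟨v, π y, 1, h, isUnit_one, ?_, ?_⟩
    · rw [hπ]; linear_combination hh
    · rw [hπ, zero_pow two_ne_zero, sub_zero]
      have h4 : IsUnit (4 : R) := by rw [show (4 : R) = 2 * 2 by norm_num]; exact h2.mul h2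
      exact (h4.mul hv).mul hy
  · obtain ⟨f, hf⟩ := hq.2 (b.coord i0)
    have hp : QuadraticMap.polar q (b i0) f = 1 := by
      rw [QuadraticMap.polar_comm, ← QuadraticMap.polarBilin_apply_apply, hf]; simp
    refine ⟨b i0, f, 1, 0, isUnit_one, by rw [hp]; ring, ?_⟩
    rw [hp, one_pow]
    have hmem : 4 * q (b i0) * q f ∈ m := by
      rw [show (4 : R) * q (b i0) * q f = 2 * (2 * q (b i0) * q f) by ring]
      exact Ideal.mul_mem_right _ _ h2
    by_contra hnu
    refine (IsLocalRing.maximalIdeal.isMaximal R).ne_top (Ideal.eq_top_of_isUnit_mem _ ?_ isUnit_one)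
    have := Ideal.sub_mem _ hmem hnu
    rwa [sub_sub_cancel] at this

theorem map_comm_of_orth {V : Type v} [AddCommGroup V] [Module R V] {q : QuadraticForm R V}
    {W : Type v} [AddCommGroup W] [Module R W] {qW : QuadraticForm R W} (inc : qW →qᵢ q) (x : V)
    (hx : ∀ w, QuadraticMap.polar q x (inc w) = 0) {y : CliffordAlgebra qW} (hy : y ∈ evenOdd qW 0) :
    ι q x * CliffordAlgebra.map inc y = CliffordAlgebra.map inc y * ι q x := by
  have h : ∀ w, ι q x * ι q (inc w) = -(ι q (inc w) * ι q x) := fun w => by
    rw [eq_neg_iff_add_eq_zero, ι_mul_ι_add_swap, hx, map_zero]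
  induction y, hy using even_induction with
  | algebraMap r => rw [AlgHom.commutes]; exact (Algebra.commutes r _).symm
  | add a c _ _ ha hc => rw [map_add, mul_add, add_mul, ha, hc]
  | ι_mul_ι_mul a c z _ hz =>
    rw [map_mul, map_mul, map_apply_ι, map_apply_ι, ← mul_assoc, ← mul_assoc, h, neg_mul,
      mul_assoc (ι q (inc a)), h, mul_neg, neg_neg, mul_assoc, mul_assoc, hz]
    simp only [mul_assoc]

theorem exists_eta_star : ∀ (k : ℕ) {V : Type v} [AddCommGroup V] [Module R V] (q : QuadraticForm R V)
    (_ : Module.Basis (Fin (2 * k)) R V), QuadGrp.IsRegular q →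
      ∃ η, IsEta (Q := q) η ∧ star (1 - 2 * η) = ((-1 : R) ^ k) • (1 - 2 * η) := by
  intro k
  induction k with
  | zero =>
    intro V _ _ q b _
    refine ⟨0, ⟨Submodule.zero_mem _, fun v => ?_, by simp⟩, by simp⟩
    have : v = 0 := b.ext_elem fun i => absurd i.2 (by simp)
    simp [this]
  | succ k ih =>
    intro V _ _ q b hq
    obtain ⟨e, f, μ, ν, hμ, hμν, hΔ⟩ := exists_plane b hq (by omega)
    set p := QuadraticMap.polar q e f with hp
    obtain ⟨t, ht⟩ := hΔ.exists_left_inv
    let α : V →ₗ[R] R := t • ((2 * q f) • QuadraticMap.polarBilin q e - p • QuadraticMap.polarBilin q f)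
    let β : V →ₗ[R] R := t • ((2 * q e) • QuadraticMap.polarBilin q f - p • QuadraticMap.polarBilin q e)
    have pee : QuadraticMap.polar q e e = 2 * q e := by rw [QuadraticMap.polar_self, two_nsmul, two_mul]
    have pff : QuadraticMap.polar q f f = 2 * q f := by rw [QuadraticMap.polar_self, two_nsmul, two_mul]
    have pfe : QuadraticMap.polar q f e = p := by rw [QuadraticMap.polar_comm]
    have hαe : α e = 1 := by
      simp only [α, LinearMap.smul_apply, LinearMap.sub_apply, QuadraticMap.polarBilin_apply_apply, pee, pfe,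
        smul_eq_mul]
      linear_combination ht
    have hαf : α f = 0 := by
      simp only [α, LinearMap.smul_apply, LinearMap.sub_apply, QuadraticMap.polarBilin_apply_apply, pff, ← hp,
        smul_eq_mul]
      ring
    have hβe : β e = 0 := by
      simp only [β, LinearMap.smul_apply, LinearMap.sub_apply, QuadraticMap.polarBilin_apply_apply, pee, pfe,
        smul_eq_mul]
      ring
    have hβf : β f = 1 := by
      simp only [β, LinearMap.smul_apply, LinearMap.sub_apply, QuadraticMap.polarBilin_apply_apply, pff, ← hp,
        smul_eq_mul]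
      linear_combination ht
    let pr : V →ₗ[R] V := LinearMap.id - α.smulRight e - β.smulRight f
    let W : Submodule R V := LinearMap.ker α ⊓ LinearMap.ker β
    have hpr : ∀ x, pr x ∈ W := fun x => by simp [pr, W, hαe, hαf, hβe, hβf]
    have horth : ∀ w ∈ W, QuadraticMap.polar q e w = 0 ∧ QuadraticMap.polar q f w = 0 := by
      intro w hw
      obtain ⟨h1, h2⟩ := hw
      simp only [SetLike.mem_coe, LinearMap.mem_ker, α, β, LinearMap.smul_apply, LinearMap.sub_apply,
        QuadraticMap.polarBilin_apply_apply, smul_eq_mul] at h1 h2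
      constructor
      · linear_combination (2 * q e) * h1 + p * h2 - QuadraticMap.polar q e w * ht
      · linear_combination p * h1 + (2 * q f) * h2 - QuadraticMap.polar q f w * ht
    let E : V ≃ₗ[R] (R × R) × W :=
      LinearEquiv.ofLinear ((α.prod β).prod (pr.codRestrict W hpr))
        (((LinearMap.toSpanSingleton R V e).coprod (LinearMap.toSpanSingleton R V f)).coprod W.subtype)
        (by
          refine LinearMap.ext fun ⟨⟨a, c⟩, w⟩ => ?_
          obtain ⟨h1, h2⟩ := w.2
          simp only [SetLike.mem_coe, LinearMap.mem_ker] at h1 h2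
          ext <;> simp [hαe, hαf, hβe, hβf, pr, h1, h2])
        (by refine LinearMap.ext fun x => ?_; simp [pr])
    haveI : Module.Free R V := Module.Free.of_basis b
    haveI : Module.Finite R V := Module.Finite.of_basis b
    haveI : Module.Finite R W := Module.Finite.of_surjective (pr.codRestrict W hpr) fun w => by
      refine ⟨w, Subtype.ext ?_⟩
      obtain ⟨h1, h2⟩ := w.2
      simp only [SetLike.mem_coe, LinearMap.mem_ker] at h1 h2
      simp [pr, h1, h2]
    haveI : Module.Projective R W := Module.Projective.of_split W.subtype (pr.codRestrict W hpr) (by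
      refine LinearMap.ext fun w => Subtype.ext ?_
      obtain ⟨h1, h2⟩ := w.2
      simp only [SetLike.mem_coe, LinearMap.mem_ker] at h1 h2
      simp [pr, h1, h2])
    haveI : Module.Free R W := Module.free_of_flat_of_isLocalRing
    have hrank : Module.finrank R W = 2 * k := by
      have := E.finrank_eq
      rw [Module.finrank_eq_card_basis b, Fintype.card_fin, Module.finrank_prod, Module.finrank_prod,
        Module.finrank_self] at this
      omega
    let qW : QuadraticForm R W := q.comp W.subtype
    have hqW : QuadGrp.IsRegular qW := by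
      have hpol : ∀ w w' : W, QuadraticMap.polarBilin qW w w' = QuadraticMap.polarBilin q (w : V) (w' : V) :=
        fun w w' => rfl
      constructor
      · refine (injective_iff_map_eq_zero _).mpr fun w hw => Subtype.ext ?_
        refine hq.1 ?_
        rw [ZeroMemClass.coe_zero, map_zero]
        refine LinearMap.ext fun x => ?_
        have hx := congrArg (fun z => QuadraticMap.polarBilin q (w : V) z) (E.symm_apply_apply x).symm
        have hw' := LinearMap.congr_fun hw ⟨pr x, hpr x⟩
        rw [hpol, LinearMap.zero_apply] at hw'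
        obtain ⟨o1, o2⟩ := horth _ w.2
        rw [show x = α x • e + β x • f + pr x by simp [pr]]
        simp only [map_add, map_smul, LinearMap.zero_apply, QuadraticMap.polarBilin_apply_apply] at hw' ⊢
        rw [hw', QuadraticMap.polar_comm q _ e, o1, QuadraticMap.polar_comm q _ f, o2]
      · intro φ
        obtain ⟨x, hx⟩ := hq.2 (φ ∘ₗ pr.codRestrict W hpr)
        refine ⟨⟨pr x, hpr x⟩, LinearMap.ext fun w => ?_⟩
        rw [hpol]
        show QuadraticMap.polarBilin q (pr x) (w : V) = φ w
        obtain ⟨o1, o2⟩ := horth _ w.2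
        obtain ⟨h1, h2⟩ := w.2
        simp only [SetLike.mem_coe, LinearMap.mem_ker] at h1 h2
        have hxw := LinearMap.congr_fun hx (w : V)
        rw [LinearMap.comp_apply, show pr.codRestrict W hpr (w : V) = w from Subtype.ext (by simp [pr, h1, h2])] at hxw
        rw [← hxw]
        simp [pr, o1, o2]
    obtain ⟨h₀, hh₀, hstar₀⟩ := ih qW ((Module.finBasisOfFinrankEq R W hrank)) hqW
    let inc : qW →qᵢ q := { W.subtype with map_app' := fun w => rfl }
    set h := CliffordAlgebra.map inc h₀ with hh
    set u : CliffordAlgebra q := algebraMap R _ ν + μ • (ι q e * ι q f) with hu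
    have hfe : ι q f * ι q e = p • (1 : CliffordAlgebra q) - ι q e * ι q f := by
      rw [eq_sub_iff_add_eq, ι_mul_ι_add_swap, pfe, Algebra.algebraMap_eq_smul_one]
    have hee : ι q e * ι q e = q e • (1 : CliffordAlgebra q) := by rw [ι_sq_scalar, Algebra.algebraMap_eq_smul_one]
    have hff : ι q f * ι q f = q f • (1 : CliffordAlgebra q) := by rw [ι_sq_scalar, Algebra.algebraMap_eq_smul_one]
    have heu : ι q e * u = (1 - u) * ι q e := by
      rw [hu, sub_mul, add_mul, mul_add, one_mul, ← Algebra.commutes, mul_smul_comm, smul_mul_assoc,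
        mul_assoc (ι q e) (ι q f), hfe, ← mul_assoc (ι q e) (ι q e), hee, mul_sub, mul_smul_comm,
        ← mul_assoc (ι q e) (ι q e), hee, mul_one, smul_mul_assoc, one_mul, Algebra.algebraMap_eq_smul_one,
        smul_mul_assoc, one_mul]
      linear_combination (norm := module) hμν • ι q e
    have hfu : ι q f * u = (1 - u) * ι q f := by
      rw [hu, sub_mul, add_mul, mul_add, one_mul, ← Algebra.commutes, mul_smul_comm, smul_mul_assoc,
        mul_assoc (ι q e) (ι q f), hff, ← mul_assoc (ι q f) (ι q e), hfe, sub_mul, smul_mul_assoc, one_mul,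
        mul_assoc (ι q e) (ι q f), hff, mul_smul_comm, mul_one, Algebra.algebraMap_eq_smul_one,
        smul_mul_assoc, one_mul]
      linear_combination (norm := module) hμν • ι q f
    have huev : u ∈ evenOdd q 0 :=
      Submodule.add_mem _ (SetLike.algebraMap_mem_graded _ _)
        (Submodule.smul_mem _ _ (ι_mul_ι_mem_evenOdd_zero q e f))
    have hhev : h ∈ evenOdd q 0 := by
      have : ∀ {y : CliffordAlgebra qW}, y ∈ evenOdd qW 0 → CliffordAlgebra.map inc y ∈ evenOdd q 0 := by
        intro y hy
        induction y, hy using even_induction with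
        | algebraMap r => rw [AlgHom.commutes]; exact SetLike.algebraMap_mem_graded _ _
        | add a c _ _ ha hc => rw [map_add]; exact Submodule.add_mem _ ha hc
        | ι_mul_ι_mul a c z _ hz =>
          rw [map_mul, map_mul, map_apply_ι, map_apply_ι]
          simpa using SetLike.mul_mem_graded (ι_mul_ι_mem_evenOdd_zero q (inc a) (inc c)) hz
      exact this hh₀.mem
    have heh : ι q e * h = h * ι q e := map_comm_of_orth inc e (fun w => (horth _ w.2).1) hh₀.mem
    have hfh : ι q f * h = h * ι q f := map_comm_of_orth inc f (fun w => (horth _ w.2).2) hh₀.mem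
    have hwh : ∀ w : W, ι q (w : V) * h = (1 - h) * ι q (w : V) := fun w => by
      have := congrArg (CliffordAlgebra.map inc) (hh₀.rel w)
      rw [map_mul, map_mul, map_sub, map_one, map_apply_ι] at this
      exact this
    have hwu : ∀ w : W, ι q (w : V) * u = u * ι q (w : V) := fun w => by
      obtain ⟨o1, o2⟩ := horth _ w.2
      have a1 : ι q (w : V) * ι q e = -(ι q e * ι q (w : V)) := by
        rw [eq_neg_iff_add_eq_zero, ι_mul_ι_add_swap, QuadraticMap.polar_comm, o1, map_zero]
      have a2 : ι q (w : V) * ι q f = -(ι q f * ι q (w : V)) := by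
        rw [eq_neg_iff_add_eq_zero, ι_mul_ι_add_swap, QuadraticMap.polar_comm, o2, map_zero]
      rw [hu, mul_add, add_mul, mul_smul_comm, smul_mul_assoc, ← Algebra.commutes, ← mul_assoc, a1, neg_mul,
        mul_assoc, a2, mul_neg, neg_neg, mul_assoc]
    have huh : u * h = h * u := by
      rw [hu, add_mul, mul_add, smul_mul_assoc, mul_smul_comm, ← Algebra.commutes, mul_assoc (ι q e), hfh,
        ← mul_assoc (ι q e), heh, mul_assoc]
    have huu : IsUnit (1 - 2 * u) := by
      have hz : (1 - 2 * u) * (1 - 2 * u) = algebraMap R _ (-(μ * μ) * (4 * q e * q f - p ^ 2)) := by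
        have e1 : (ι q e * ι q f) * (ι q e * ι q f) = p • (ι q e * ι q f) - (q e * q f) • (1 : CliffordAlgebra q) := by
          rw [mul_assoc, ← mul_assoc (ι q f), hfe, sub_mul, smul_mul_assoc, one_mul, mul_sub, mul_smul_comm,
            mul_assoc (ι q e) (ι q f), hff, mul_smul_comm, mul_one, mul_smul_comm, hee, smul_smul,
            mul_comm (q f)]
        have e2 : 1 - 2 * u = (μ * p) • (1 : CliffordAlgebra q) - (2 * μ) • (ι q e * ι q f) := by
          rw [hu, two_mul, Algebra.algebraMap_eq_smul_one]
          linear_combination (norm := module) -(hμν • (1 : CliffordAlgebra q))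
        rw [e2, Algebra.algebraMap_eq_smul_one]
        simp only [sub_mul, mul_sub, smul_mul_assoc, mul_smul_comm, smul_smul, one_mul, mul_one, e1, smul_sub]
        module
      have hu' : IsUnit ((1 - 2 * u) * (1 - 2 * u)) := by
        rw [hz]; exact ((hμ.mul hμ).neg.mul hΔ).map _
      exact (Commute.refl (1 - 2 * u)).isUnit_mul_iff.mp hu' |>.1
    have hhu : IsUnit (1 - 2 * h) := by
      have := hh₀.unit.map (CliffordAlgebra.map inc)
      rwa [map_sub, map_one, map_mul, map_ofNat] at this
    refine ⟨u + h - 2 * (u * h), ⟨?_, fun x => ?_, ?_⟩, ?_⟩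
    · have huhev : u * h ∈ evenOdd q 0 := by simpa using SetLike.mul_mem_graded huev hhev
      exact Submodule.sub_mem _ (Submodule.add_mem _ huev hhev)
        (by rw [two_mul]; exact Submodule.add_mem _ huhev huhev)
    · have key1 : ∀ y : CliffordAlgebra q, y * u = (1 - u) * y → y * h = h * y →
          y * (u + h - 2 * (u * h)) = (1 - (u + h - 2 * (u * h))) * y := by
        intro y hu' hh'
        have : y * (u * h) = (1 - u) * h * y := by rw [← mul_assoc, hu', mul_assoc, hh', mul_assoc]
        rw [mul_sub, mul_add, hu', hh', two_mul (u * h), mul_add, this]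
        noncomm_ring
      have key2 : ∀ y : CliffordAlgebra q, y * u = u * y → y * h = (1 - h) * y →
          y * (u + h - 2 * (u * h)) = (1 - (u + h - 2 * (u * h))) * y := by
        intro y hu' hh'
        have : y * (u * h) = u * (1 - h) * y := by rw [← mul_assoc, hu', mul_assoc, hh', mul_assoc]
        rw [mul_sub, mul_add, hu', hh', two_mul (u * h), mul_add, this]
        noncomm_ring
      have hx : x = α x • e + β x • f + pr x := by simp [pr]
      rw [hx, map_add, map_add, map_smul, map_smul, add_mul, add_mul, smul_mul_assoc, smul_mul_assoc,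
        key1 _ heu heh, key1 _ hfu hfh, key2 _ (hwu ⟨_, hpr x⟩) (hwh ⟨_, hpr x⟩), mul_add, mul_add,
        mul_smul_comm, mul_smul_comm]
    · have : 1 - 2 * (u + h - 2 * (u * h)) = (1 - 2 * u) * (1 - 2 * h) := by noncomm_ring
      rw [this]; exact huu.mul hhu
    · have hmul : 1 - 2 * (u + h - 2 * (u * h)) = (1 - 2 * u) * (1 - 2 * h) := by noncomm_ring
      have hsmap : ∀ y : CliffordAlgebra qW, star (CliffordAlgebra.map inc y) = CliffordAlgebra.map inc (star y) := by
        intro y
        induction y using CliffordAlgebra.left_induction with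
        | algebraMap r => rw [AlgHom.commutes, star_algebraMap, star_algebraMap, AlgHom.commutes]
        | add a c ha hc => rw [map_add, star_add, star_add, ha, hc, map_add]
        | ι_mul a c hc =>
          rw [map_mul, map_apply_ι, star_mul, star_mul, hc, star_ι, star_ι, map_mul, map_neg, map_apply_ι]
      have hsh : star (1 - 2 * h) = ((-1 : R) ^ k) • (1 - 2 * h) := by
        have e : (1 - 2 * h : CliffordAlgebra q) = CliffordAlgebra.map inc (1 - 2 * h₀) := by
          rw [map_sub, map_one, map_mul, map_ofNat]
        rw [e, hsmap, hstar₀, map_smul]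
      have hsu : star (1 - 2 * u) = (-1 : R) • (1 - 2 * u) := by
        rw [hu, two_mul, star_sub, star_one, star_add, star_add, star_algebraMap, CliffordAlgebra.star_smul, star_mul, star_ι,
          star_ι, neg_mul_neg, hfe, Algebra.algebraMap_eq_smul_one]
        linear_combination (norm := module) -(2 * hμν) • (1 : CliffordAlgebra q)
      have hc : (1 - 2 * h) * (1 - 2 * u) = (1 - 2 * u) * (1 - 2 * h) := by
        have : Commute (1 - 2 * h) (1 - 2 * u) :=
          ((Commute.one_left _).sub_left (((Commute.ofNat_left 2 _).mul_left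
            (((Commute.one_right _).sub_right ((Commute.ofNat_right h 2).mul_right huh.symm))))))
        exact this
      rw [hmul, star_mul, hsh, hsu, smul_mul_assoc, mul_smul_comm, smul_smul, hc, pow_succ]

theorem exists_eta (k : ℕ) {V : Type v} [AddCommGroup V] [Module R V] (q : QuadraticForm R V)
    (b : Module.Basis (Fin (2 * k)) R V) (hq : QuadGrp.IsRegular q) : ∃ η, IsEta (Q := q) η :=
  let ⟨η, hη, _⟩ := exists_eta_star k q b hq
  ⟨η, hη⟩

end QuadCliff
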