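import Groth.Agent.QuadCliff.BC
import Groth.Agent.QuadCliff.Local
import Mathlib.RingTheory.Spectrum.Prime.Topology
import Mathlib.RingTheory.Localization.AtPrime.Basic
import Mathlib.Tactic

/-! Dickson invariant, determinant and local homogeneity for regular forms of even rank. -/

namespace QuadCliff

open CliffordAlgebra TensorProduct

universe u v

variable {R : Type u} [CommRing R] {M : Type v} [AddCommGroup M] [Module R M] {Q : QuadraticForm R M}

theorem comm_even_of_pairs {z : CliffordAlgebra Q}
    (h : ∀ v w, z * (ι Q v * ι Q w) = (ι Q v * ι Q w) * z) {x : CliffordAlgebra Q} (hx : x ∈ evenOdd Q 0) :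
    z * x = x * z := by
  induction x, hx using even_induction with
  | algebraMap r => exact (Algebra.commutes r z).symm
  | add x y _ _ hx hy => rw [mul_add, add_mul, hx, hy]
  | ι_mul_ι_mul v w x _ hx => rw [← mul_assoc, h, mul_assoc, hx]; simp only [mul_assoc]

theorem mem_center_iff_comm (z : CliffordAlgebra.even Q) :
    z ∈ Subalgebra.center R (CliffordAlgebra.even Q) ↔
      ∀ x ∈ evenOdd Q 0, (z : CliffordAlgebra Q) * x = x * z := by
  rw [Subalgebra.mem_center_iff]
  exact ⟨fun h x hx => (congrArg Subtype.val (h ⟨x, hx⟩)).symm, fun h x => Subtype.ext (h x x.2).symm⟩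

section EvenRank

variable {n : ℕ} (b : Module.Basis (Fin n) R M) (hQ : QuadGrp.IsRegular Q)
  {η : CliffordAlgebra Q} (hη : IsEta η) (g : M ≃ₗ[R] M) (hg : g ∈ QuadGrp.O Q)

include b hQ hη

theorem fixed_of_eta (hn : 0 < n) (hf : cmap g hg η = η) {z : CliffordAlgebra Q} (hz : z ∈ evenOdd Q 0)
    (hc : ∀ x ∈ evenOdd Q 0, z * x = x * z) : cmap g hg z = z := by
  obtain ⟨a, c, rfl⟩ := hη.mem_span_of_central b hQ hn hz hc
  rw [map_add, AlgHom.commutes, map_smul, hf]

theorem isDicksonTrivial_iff (hn : 0 < n) :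
    QuadGrp.IsDicksonTrivial Q g hg ↔ cmap g hg η = η := by
  refine ⟨fun h => h ⟨η, hη.mem⟩ hη.mem_center, fun h z hz => ?_⟩
  exact fixed_of_eta b hQ hη g hg hn h z.2 ((mem_center_iff_comm z).mp hz)

theorem dichotomy [IsLocalRing R] (hn : 0 < n) : cmap g hg η = η ∨ cmap g hg η = 1 - η := by
  obtain ⟨e, he, h⟩ := hη.exists_idem b hQ hn g hg
  by_cases hu : IsUnit e
  · have he1 : e = 1 := hu.mul_left_cancel (by rw [mul_one]; exact he)
    right; rw [h, he1, map_one]; module
  · left
    have h1 : IsUnit (1 - e) := IsLocalRing.isUnit_one_sub_self_of_mem_nonunits e hu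
    have he0 : e = 0 := h1.mul_left_cancel (by rw [mul_zero, sub_mul, one_mul, he, sub_self])
    rw [h, he0, map_zero]; module

theorem not_both (hn : 0 < n) [Nontrivial R] (h0 : cmap g hg η = η) : cmap g hg η ≠ 1 - η := by
  intro h1
  haveI := (algebraMap_injective (Q := Q) b).nontrivial
  have : 1 - 2 * η = 0 := by rw [two_mul, ← sub_sub, ← h1, h0, sub_self]
  exact hη.unit.ne_zero this

theorem det_of_fixed [IsLocalRing R] (hev : Even n) (h : cmap g hg η = η) :
    LinearMap.det g.toLinearMap = 1 := by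
  obtain ⟨u, hu⟩ := hη.exists_unit b hQ g hg
  refine det_of_even_unit b g hg u hu (hη.mem_even_of_commute ?_)
  rw [conj_cmap hg hu, h]

theorem det_of_skew [IsLocalRing R] (hev : Even n) (h : cmap g hg η = 1 - η) :
    LinearMap.det g.toLinearMap = -1 := by
  obtain ⟨u, hu⟩ := hη.exists_unit b hQ g hg
  refine det_of_odd_unit b hev g hg u hu (hη.mem_odd_of_skew ?_)
  rw [conj_cmap hg hu, h]

theorem homogeneous_of_unit [IsLocalRing R] (hn : 0 < n) (u : CliffordAlgebra Q)
    (hu : ∀ v, u * ι Q v = ι Q (g v) * u) (hg' : g ∈ QuadGrp.O Q) :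
    u ∈ evenOdd Q 0 ∨ u ∈ evenOdd Q 1 := by
  rcases dichotomy b hQ hη g hg' hn with h | h
  · exact Or.inl (hη.mem_even_of_commute (by rw [conj_cmap hg' hu, h]))
  · exact Or.inr (hη.mem_odd_of_skew (by rw [conj_cmap hg' hu, h]))

end EvenRank

section Local

variable [Module.Free R M] {k : ℕ} (b : Module.Basis (Fin (2 * k)) R M) (hQ : QuadGrp.IsRegular Q)
  (p : Ideal R) [p.IsPrime]

include b hQ

theorem exists_eta_atPrime :
    ∃ η, IsEta (Q := QuadGrp.baseChangeForm (Localization.AtPrime p) Q) η :=
  exists_eta k _ (b.baseChange _) (isRegular_baseChange _ _ b hQ)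

omit hQ in
theorem det_baseChange_eq (g : M ≃ₗ[R] M) :
    LinearMap.det (g.baseChange R (Localization.AtPrime p) M M).toLinearMap =
      algebraMap R _ (LinearMap.det g.toLinearMap) := by
  rw [← LinearMap.det_toMatrix b, ← LinearMap.det_toMatrix (b.baseChange (Localization.AtPrime p)),
    RingHom.map_det]
  congr 1
  ext i j
  simp [LinearMap.toMatrix_apply, Algebra.smul_def]

omit hQ in
theorem toBC_comm_even {z : CliffordAlgebra Q} (hz : ∀ x ∈ evenOdd Q 0, z * x = x * z)
    {x : CliffordAlgebra (QuadGrp.baseChangeForm (Localization.AtPrime p) Q)}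
    (hx : x ∈ evenOdd (QuadGrp.baseChangeForm (Localization.AtPrime p) Q) 0) :
    toBC _ Q z * x = x * toBC _ Q z := by
  refine comm_even_of_pairs (fun v w => ?_) hx
  induction v using TensorProduct.induction_on with
  | zero => simp
  | add v v' h h' => simp only [map_add, add_mul, mul_add, h, h']
  | tmul a m =>
    induction w using TensorProduct.induction_on with
    | zero => simp
    | add w w' h h' => simp only [map_add, mul_add, add_mul, h, h']
    | tmul c m' =>
      have h0 := congrArg (toBC (Localization.AtPrime p) Q) (hz _ (ι_mul_ι_mem_evenOdd_zero Q m m'))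
      simp only [map_mul, toBC_ι] at h0
      have e : ∀ (a : Localization.AtPrime p) (m : M), a ⊗ₜ[R] m = a • ((1 : Localization.AtPrime p) ⊗ₜ[R] m) :=
        fun a m => by rw [TensorProduct.smul_tmul', smul_eq_mul, mul_one]
      rw [e a, e c, map_smul, map_smul]
      simp only [smul_mul_assoc, mul_smul_comm, h0]

omit b hQ in
theorem baseChange_conj (g : M ≃ₗ[R] M) (u : CliffordAlgebra Q) (hu : ∀ v, u * ι Q v = ι Q (g v) * u)
    (y : Localization.AtPrime p ⊗[R] M) :
    toBC _ Q u * ι (QuadGrp.baseChangeForm (Localization.AtPrime p) Q) y =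
      ι _ (g.baseChange R (Localization.AtPrime p) M M y) * toBC _ Q u := by
  induction y using TensorProduct.induction_on with
  | zero => simp
  | add y y' h h' => simp only [map_add, mul_add, add_mul, h, h']
  | tmul a m =>
    have h0 := congrArg (toBC (Localization.AtPrime p) Q) (hu m)
    simp only [map_mul, toBC_ι] at h0
    have e : ∀ (a : Localization.AtPrime p) (m : M), a ⊗ₜ[R] m = a • ((1 : Localization.AtPrime p) ⊗ₜ[R] m) :=
      fun a m => by rw [TensorProduct.smul_tmul', smul_eq_mul, mul_one]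
    rw [LinearEquiv.baseChange_tmul, e a m, e a (g m), map_smul, map_smul, mul_smul_comm, smul_mul_assoc, h0]

end Local

theorem eq_zero_of_forall_atPrime {x : R}
    (h : ∀ (p : Ideal R) [p.IsPrime], algebraMap R (Localization.AtPrime p) x = 0) : x = 0 := by
  by_contra hx
  obtain ⟨p, hp, hle⟩ := Ideal.exists_le_maximal (LinearMap.ker (LinearMap.toSpanSingleton R R x)) (by
    intro ht
    have : (1 : R) ∈ LinearMap.ker (LinearMap.toSpanSingleton R R x) := ht ▸ Submodule.mem_top
    simp at this; exact hx this)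
  haveI := hp.isPrime
  obtain ⟨s, hs⟩ := (IsLocalization.map_eq_zero_iff p.primeCompl (Localization.AtPrime p) x).mp (h p)
  exact s.2 (hle (by simpa using hs))

theorem eq_zero_of_forall_toBC [Module.Free R M] {x : CliffordAlgebra Q}
    (h : ∀ (p : Ideal R) [p.IsPrime], toBC (Localization.AtPrime p) Q x = 0) : x = 0 := by
  by_contra hx
  obtain ⟨p, hp, hle⟩ := Ideal.exists_le_maximal (LinearMap.ker (LinearMap.toSpanSingleton R (CliffordAlgebra Q) x)) (by
    intro ht
    have : (1 : R) ∈ LinearMap.ker (LinearMap.toSpanSingleton R (CliffordAlgebra Q) x) := ht ▸ Submodule.mem_top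
    simp at this; exact hx this)
  haveI := hp.isPrime
  obtain ⟨s, hs, hsx⟩ := exists_smul_eq_zero (Localization.AtPrime p) Q p.primeCompl (h p)
  exact hs (hle (by simpa using hsx))

section Global

variable [Module.Free R M] {k : ℕ} (b : Module.Basis (Fin (2 * k)) R M) (hk : 0 < k)
  (hQ : QuadGrp.IsRegular Q) (g : M ≃ₗ[R] M) (hg : g ∈ QuadGrp.O Q)

include b hk hQ

/-- Dickson-trivial isometries fix the local generators. -/
theorem fixed_atPrime (hD : QuadGrp.IsDicksonTrivial Q g hg) (p : Ideal R) [p.IsPrime]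
    {η : CliffordAlgebra (QuadGrp.baseChangeForm (Localization.AtPrime p) Q)} (hη : IsEta η) :
    cmap (g.baseChange R (Localization.AtPrime p) M M) (baseChange_mem_O _ Q g hg) η = η := by
  classical
  obtain ⟨x, s, hs, hsx⟩ := exists_smul_eq (Localization.AtPrime p) Q p.primeCompl η
  have hsu : IsUnit (algebraMap R (Localization.AtPrime p) s) :=
    IsLocalization.map_units (Localization.AtPrime p) (⟨s, hs⟩ : p.primeCompl)
  obtain ⟨x0, h0, x1, h1, rfl⟩ := exists_decomp x
  have hx1 : toBC (Localization.AtPrime p) Q x1 = 0 := by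
    have he : toBC (Localization.AtPrime p) Q x0 + toBC (Localization.AtPrime p) Q x1 =
        algebraMap R (Localization.AtPrime p) s • η + 0 := by
      rw [add_zero, hsx, map_add]
    exact (decomp_unique (toBC_mem_evenOdd _ _ h0) (Submodule.smul_mem _ _ hη.mem)
      (toBC_mem_evenOdd _ _ h1) (Submodule.zero_mem _) he).2
  rw [map_add, hx1, add_zero] at hsx
  -- clear denominators in the commutation relations
  have hpair : ∀ ij : Fin (2 * k) × Fin (2 * k), ∃ t ∈ p.primeCompl,
      t • (x0 * (ι Q (b ij.1) * ι Q (b ij.2)) - (ι Q (b ij.1) * ι Q (b ij.2)) * x0) = 0 := fun ij => by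
    refine exists_smul_eq_zero (Localization.AtPrime p) Q p.primeCompl ?_
    simp only [map_sub, map_mul, ← hsx, smul_mul_assoc, mul_smul_comm]
    rw [← map_mul, 
      hη.comm (toBC_mem_evenOdd (Localization.AtPrime p) Q (ι_mul_ι_mem_evenOdd_zero Q _ _)), sub_self]
  choose t ht htx using hpair
  set T := ∏ ij, t ij with hT
  have hTx : ∀ x ∈ evenOdd Q 0, (T • x0) * x = x * (T • x0) := by
    intro x hx
    refine comm_even_of_pairs (fun v w => ?_) hx
    rw [← b.sum_repr v, ← b.sum_repr w]
    simp only [map_sum, map_smul, Finset.sum_mul, Finset.mul_sum, smul_mul_assoc, mul_smul_comm, Finset.smul_sum]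
    refine Finset.sum_congr rfl fun i _ => Finset.sum_congr rfl fun j _ => ?_
    have : T • (x0 * (ι Q (b j) * ι Q (b i))) = T • (ι Q (b j) * ι Q (b i) * x0) := by
      rw [← sub_eq_zero, ← smul_sub, hT, ← Finset.prod_erase_mul _ _ (Finset.mem_univ (j, i)), mul_smul,
        htx (j, i), smul_zero]
    rw [this, smul_comm T, smul_comm T]
  have hfix := hD ⟨T • x0, Submodule.smul_mem _ _ h0⟩ ((mem_center_iff_comm _).mpr hTx)
  have h2 := congrArg (toBC (Localization.AtPrime p) Q) hfix
  rw [map_smul, map_smul, map_smul, toBC_map, ← hsx, map_smul, ← algebraMap_smul (Localization.AtPrime p) T,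
    ← algebraMap_smul (Localization.AtPrime p) T, smul_smul, smul_smul] at h2
  have hTu : IsUnit (algebraMap R (Localization.AtPrime p) T * algebraMap R (Localization.AtPrime p) s) :=
    (IsLocalization.map_units (Localization.AtPrime p) (⟨T, prod_mem fun ij _ => ht ij⟩ : p.primeCompl)).mul hsu
  exact hTu.smul_left_cancel.mp h2

theorem det_eq_one_of_dickson (hD : QuadGrp.IsDicksonTrivial Q g hg) :
    LinearMap.det g.toLinearMap = 1 := by
  refine sub_eq_zero.mp (eq_zero_of_forall_atPrime fun p _ => ?_)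
  obtain ⟨η, hη⟩ := exists_eta_atPrime b hQ p
  have := det_of_fixed (b.baseChange (Localization.AtPrime p)) (isRegular_baseChange _ _ b hQ) hη
    _ (baseChange_mem_O _ Q g hg) (even_two_mul k) (fixed_atPrime b hk hQ g hg hD p hη)
  rw [det_baseChange_eq b p g] at this
  rw [map_sub, this, map_one, sub_self]

theorem isDicksonTrivial_of_fixed_atPrime
    (h : ∀ (p : Ideal R) [p.IsPrime], ∃ η : CliffordAlgebra (QuadGrp.baseChangeForm (Localization.AtPrime p) Q),
      IsEta η ∧ cmap (g.baseChange R (Localization.AtPrime p) M M) (baseChange_mem_O _ Q g hg) η = η) :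
    QuadGrp.IsDicksonTrivial Q g hg := by
  intro z hz
  refine sub_eq_zero.mp (eq_zero_of_forall_toBC fun p _ => ?_)
  obtain ⟨η, hη, hf⟩ := h p
  rw [map_sub, toBC_map, sub_eq_zero]
  exact fixed_of_eta (b.baseChange (Localization.AtPrime p)) (isRegular_baseChange _ _ b hQ) hη _ _
    (by omega) hf (toBC_mem_evenOdd _ _ z.2) fun x hx => toBC_comm_even b p ((mem_center_iff_comm z).mp hz) hx

theorem isDicksonTrivial_of_det [Invertible (2 : R)] (h : LinearMap.det g.toLinearMap = 1) :
    QuadGrp.IsDicksonTrivial Q g hg := by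
  refine isDicksonTrivial_of_fixed_atPrime b hk hQ g hg fun p _ => ?_
  obtain ⟨η, hη⟩ := exists_eta_atPrime b hQ p
  refine ⟨η, hη, ?_⟩
  rcases dichotomy (b.baseChange (Localization.AtPrime p)) (isRegular_baseChange _ _ b hQ) hη
    _ (baseChange_mem_O _ Q g hg) (by omega) with h' | h'
  · exact h'
  · exfalso
    have := det_of_skew (b.baseChange (Localization.AtPrime p)) (isRegular_baseChange _ _ b hQ) hη
      _ (baseChange_mem_O _ Q g hg) (even_two_mul k) h'
    rw [det_baseChange_eq b p g, h, map_one] at this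
    have h2 := (isUnit_of_invertible (2 : R)).map (algebraMap R (Localization.AtPrime p))
    rw [map_ofNat] at h2
    exact h2.ne_zero (by linear_combination this)

theorem det_eq_neg_one_of_not_dickson (hc : ConnectedSpace (PrimeSpectrum R))
    (hD : ¬ QuadGrp.IsDicksonTrivial Q g hg) : LinearMap.det g.toLinearMap = -1 := by
  classical
  let gp := fun p : PrimeSpectrum R => g.baseChange R (Localization.AtPrime p.asIdeal) M M
  let hgp := fun p : PrimeSpectrum R => baseChange_mem_O (Localization.AtPrime p.asIdeal) Q g hg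
  let U : Set (PrimeSpectrum R) :=
    {p | ∀ η : CliffordAlgebra (QuadGrp.baseChangeForm (Localization.AtPrime p.asIdeal) Q),
      IsEta η → cmap (gp p) (hgp p) η = η}
  let V : Set (PrimeSpectrum R) :=
    {p | ∀ η : CliffordAlgebra (QuadGrp.baseChangeForm (Localization.AtPrime p.asIdeal) Q),
      IsEta η → cmap (gp p) (hgp p) η = 1 - η}
  -- a single generator decides
  have hdec : ∀ (p : PrimeSpectrum R) (η : CliffordAlgebra (QuadGrp.baseChangeForm (Localization.AtPrime p.asIdeal) Q)),
      IsEta η → (cmap (gp p) (hgp p) η = η → p ∈ U) ∧ (cmap (gp p) (hgp p) η = 1 - η → p ∈ V) := by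
    intro p η hη
    have hreg := isRegular_baseChange (Localization.AtPrime p.asIdeal) Q b hQ
    refine ⟨fun h η' hη' => ?_, fun h η' hη' => ?_⟩
    · exact fixed_of_eta (b.baseChange _) hreg hη _ _ (by omega) h hη'.mem (fun x hx => (hη'.comm hx).symm)
    · rcases dichotomy (b.baseChange _) hreg hη' _ (hgp p) (by omega) with h' | h'
      · exact absurd h (not_both (b.baseChange _) hreg hη _ _ (by omega)
          (fixed_of_eta (b.baseChange _) hreg hη' _ _ (by omega) h' hη.mem (fun x hx => (hη.comm hx).symm)))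
      · exact h'
  have hcover : ∀ p, p ∈ U ∨ p ∈ V := fun p => by
    obtain ⟨η, hη⟩ := exists_eta_atPrime b hQ p.asIdeal
    rcases dichotomy (b.baseChange (Localization.AtPrime p.asIdeal)) (isRegular_baseChange _ _ b hQ) hη
      _ (hgp p) (by omega) with h | h
    · exact Or.inl ((hdec p η hη).1 h)
    · exact Or.inr ((hdec p η hη).2 h)
  have hdisj : ∀ p, p ∈ U → p ∉ V := fun p hU hV => by
    obtain ⟨η, hη⟩ := exists_eta_atPrime b hQ p.asIdeal
    exact not_both (b.baseChange (Localization.AtPrime p.asIdeal)) (isRegular_baseChange _ _ b hQ) hη _ (hgp p)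
      (by omega) (hU η hη) (hV η hη)
  -- openness: spread a generator out
  have hopen : ∀ p : PrimeSpectrum R, ∃ O : Set (PrimeSpectrum R), IsOpen O ∧ p ∈ O ∧
      ((p ∈ U → O ⊆ U) ∧ (p ∈ V → O ⊆ V)) := by
    intro p
    obtain ⟨η, hη⟩ := exists_eta_atPrime b hQ p.asIdeal
    let A := Localization.AtPrime p.asIdeal
    obtain ⟨x, s, hs, hsx⟩ := exists_smul_eq A Q p.asIdeal.primeCompl η
    have hsu : IsUnit (algebraMap R A s) := IsLocalization.map_units A (⟨s, hs⟩ : p.asIdeal.primeCompl)
    obtain ⟨x0, h0, x1, h1, rfl⟩ := exists_decomp x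
    have hx1 : toBC A Q x1 = 0 :=
      (decomp_unique (toBC_mem_evenOdd _ _ h0) (Submodule.smul_mem _ _ hη.mem) (toBC_mem_evenOdd _ _ h1)
        (Submodule.zero_mem _) (by rw [add_zero, hsx, map_add])).2
    rw [map_add, hx1, add_zero] at hsx
    obtain ⟨zi, hzi⟩ := hη.unit.exists_right_inv
    obtain ⟨y, r, hr, hry⟩ := exists_smul_eq A Q p.asIdeal.primeCompl zi
    have hrel : ∀ i, ∃ t ∈ p.asIdeal.primeCompl,
        t • (ι Q (b i) * x0 + x0 * ι Q (b i) - s • ι Q (b i)) = 0 := fun i => by
      refine exists_smul_eq_zero A Q p.asIdeal.primeCompl ?_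
      rw [map_sub, map_add, map_mul, map_mul, map_smul, toBC_ι, ← hsx, mul_smul_comm, smul_mul_assoc,
        hη.rel, ← smul_add, sub_mul, one_mul, sub_add_cancel, algebraMap_smul, sub_self]
    choose t ht htx using hrel
    obtain ⟨t', ht', htx'⟩ := exists_smul_eq_zero A Q p.asIdeal.primeCompl
      (x := (s • (1 : CliffordAlgebra Q) - 2 * x0) * y - (s * r) • 1) (by
        simp only [map_sub, map_mul, map_smul, map_one, map_ofNat]
        rw [← hsx, ← hry, ← algebraMap_smul A s, ← algebraMap_smul A (s * r), map_mul,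
          show algebraMap R A s • (1 : CliffordAlgebra _) - 2 * algebraMap R A s • η = algebraMap R A s • (1 - 2 * η) by
            rw [smul_sub, mul_smul_comm],
          smul_mul_assoc, mul_smul_comm, hzi, smul_smul, sub_self])
    obtain ⟨tf, htf, htfx⟩ : ∃ tf ∈ p.asIdeal.primeCompl,
        (p ∈ U → tf • (cmap g hg x0 - x0) = 0) ∧ (p ∈ V → tf • (cmap g hg x0 + x0 - s • 1) = 0) := by
      by_cases hU : p ∈ U
      · obtain ⟨t0, ht0, e0⟩ := exists_smul_eq_zero A Q p.asIdeal.primeCompl (x := cmap g hg x0 - x0) (by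
          rw [map_sub, toBC_map, ← hsx, map_smul, sub_eq_zero]
          exact congrArg _ (hU η hη))
        exact ⟨t0, ht0, fun _ => e0, fun hV => absurd hV (hdisj p hU)⟩
      · obtain ⟨t0, ht0, e0⟩ := exists_smul_eq_zero A Q p.asIdeal.primeCompl
          (x := cmap g hg x0 + x0 - s • (1 : CliffordAlgebra Q)) (by
          rw [map_sub, map_add, toBC_map, map_smul, map_one, ← hsx, map_smul,
            show cmap (gp p) (hgp p) η = 1 - η from ((hcover p).resolve_left hU) η hη,
            ← smul_add, sub_add_cancel, algebraMap_smul, sub_self])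
        exact ⟨t0, ht0, fun h => absurd h hU, fun _ => e0⟩
    let N := s * r * (∏ i, t i) * t' * tf
    have hN : N ∈ p.asIdeal.primeCompl :=
      mul_mem (mul_mem (mul_mem (mul_mem hs hr) (prod_mem fun i _ => ht i)) ht') htf
    refine ⟨PrimeSpectrum.basicOpen N, (PrimeSpectrum.basicOpen N).isOpen, hN, ?_⟩
    -- the spread out generator at `q`
    have hq : ∀ q ∈ PrimeSpectrum.basicOpen N, ∃ si : Localization.AtPrime q.asIdeal,
        si * algebraMap R _ s = 1 ∧ IsUnit (algebraMap R (Localization.AtPrime q.asIdeal) tf) ∧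
        IsEta (si • toBC (Localization.AtPrime q.asIdeal) Q x0) := by
      intro q hqN
      let B := Localization.AtPrime q.asIdeal
      have hNu : IsUnit (algebraMap R B N) := IsLocalization.map_units B (⟨N, hqN⟩ : q.asIdeal.primeCompl)
      simp only [N, map_mul, IsUnit.mul_iff] at hNu
      obtain ⟨⟨⟨⟨hsB, hrB⟩, htB⟩, ht'B⟩, htfB⟩ := hNu
      obtain ⟨si, hsi⟩ := hsB.exists_left_inv
      have hrel' : ∀ y, ι (QuadGrp.baseChangeForm B Q) y * (si • toBC B Q x0) = (1 - si • toBC B Q x0) * ι _ y := by
        intro y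
        have hb : ∀ i, ι (QuadGrp.baseChangeForm B Q) ((1 : B) ⊗ₜ[R] b i) * toBC B Q x0 +
            toBC B Q x0 * ι _ ((1 : B) ⊗ₜ[R] b i) = algebraMap R B s • ι _ ((1 : B) ⊗ₜ[R] b i) := by
          intro i
          have h := congrArg (toBC B Q) (htx i)
          rw [map_smul, map_zero, ← algebraMap_smul B (t i)] at h
          have hti : IsUnit (algebraMap R B (t i)) := by
            rw [map_prod] at htB; exact IsUnit.prod_iff.mp htB i (Finset.mem_univ i)
          have h' := hti.smul_eq_zero.mp h
          rw [map_sub, sub_eq_zero, map_add, map_mul, map_mul, map_smul, toBC_ι, ← algebraMap_smul B s] at h'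
          exact h'
        have hall : ι (QuadGrp.baseChangeForm B Q) y * toBC B Q x0 + toBC B Q x0 * ι _ y =
            algebraMap R B s • ι _ y := by
          rw [← (b.baseChange B).sum_repr y]
          simp only [map_sum, map_smul, Finset.sum_mul, Finset.mul_sum, ← Finset.sum_add_distrib,
            Finset.smul_sum, smul_mul_assoc, mul_smul_comm, ← smul_add, Module.Basis.baseChange_apply, hb]
          exact Finset.sum_congr rfl fun i _ => smul_comm _ _ _
        rw [mul_smul_comm, sub_mul, one_mul, smul_mul_assoc, eq_sub_iff_add_eq, ← smul_add, hall, smul_smul, hsi,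
          one_smul]
      refine ⟨si, hsi, htfB, ⟨Submodule.smul_mem _ _ (toBC_mem_evenOdd _ _ h0), hrel', ?_⟩⟩
      · have h := congrArg (toBC B Q) htx'
        rw [map_smul, map_zero, ← algebraMap_smul B t'] at h
        have h' := ht'B.smul_eq_zero.mp h
        simp only [map_sub, map_mul, map_smul, map_one, map_ofNat] at h'
        rw [sub_eq_zero, ← algebraMap_smul B s, ← algebraMap_smul B (s * r), map_mul] at h'
        have he : algebraMap R B s • (1 - 2 * (si • toBC B Q x0)) = algebraMap R B s • (1 : CliffordAlgebra _) - 2 * toBC B Q x0 := by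
          rw [mul_smul_comm, smul_sub, smul_smul, mul_comm, hsi, one_smul]
        rw [← he] at h'
        have hu : IsUnit ((1 - 2 * (si • toBC B Q x0)) * (algebraMap R B s • toBC B Q y)) := by
          rw [mul_smul_comm, ← smul_mul_assoc, h', Algebra.algebraMap_eq_smul_one (R := B) (A := CliffordAlgebra _) _ |>.symm]
          exact (hsB.mul hrB).map _
        obtain ⟨w, hw⟩ := hu.exists_right_inv
        obtain ⟨d, hd⟩ := eq_algebraMap_of_superCentral (b.baseChange B) (isRegular_baseChange _ _ b hQ)
          ((1 - 2 * (si • toBC B Q x0)) * (1 - 2 * (si • toBC B Q x0))) (fun v => by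
            have hrelv := hrel' v
            have hev : involute (si • toBC B Q x0) = si • toBC B Q x0 :=
              involute_eq_of_mem_even (Submodule.smul_mem _ _ (toBC_mem_evenOdd _ _ h0))
            have hz : ι _ v * (1 - 2 * (si • toBC B Q x0)) = -((1 - 2 * (si • toBC B Q x0)) * ι _ v) := by
              rw [mul_sub, mul_one, ← mul_assoc, mul_two, add_mul, hrelv]
              noncomm_ring
            rw [map_mul, map_sub, map_one, map_mul, map_ofNat, hev, ← mul_assoc, hz, neg_mul, mul_assoc, hz,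
              mul_neg, neg_neg, mul_assoc])
        set z' := 1 - 2 * (si • toBC B Q x0)
        have hR : z' * ((algebraMap R B s • toBC B Q y) * w) = 1 := by rw [← mul_assoc]; exact hw
        have hd' : IsUnit (algebraMap B (CliffordAlgebra (QuadGrp.baseChangeForm B Q)) d) := by
          set R0 := (algebraMap R B s • toBC B Q y) * w
          have e1 : algebraMap B _ d * (R0 * R0) = 1 := by
            rw [← hd, mul_assoc z' z', ← mul_assoc z' R0, hR, one_mul, hR]
          refine ⟨⟨algebraMap B _ d, R0 * R0, e1, ?_⟩, rfl⟩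
          rw [← Algebra.commutes d, e1]
        rw [← hd] at hd'
        exact ((Commute.refl z').isUnit_mul_iff.mp hd').1
    refine ⟨fun hU q hqN => ?_, fun hV q hqN => ?_⟩
    · obtain ⟨si, -, htfB, hη'⟩ := hq q hqN
      refine (hdec q _ hη').1 ?_
      have h := congrArg (toBC (Localization.AtPrime q.asIdeal) Q) (htfx.1 hU)
      rw [map_smul, map_zero, ← algebraMap_smul (Localization.AtPrime q.asIdeal) tf] at h
      have h' := htfB.smul_eq_zero.mp h
      rw [map_sub, sub_eq_zero, toBC_map] at h'
      rw [map_smul]; exact congrArg _ h'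
    · obtain ⟨si, hsi, htfB, hη'⟩ := hq q hqN
      refine (hdec q _ hη').2 ?_
      have h := congrArg (toBC (Localization.AtPrime q.asIdeal) Q) (htfx.2 hV)
      rw [map_smul, map_zero, ← algebraMap_smul (Localization.AtPrime q.asIdeal) tf] at h
      have h' := htfB.smul_eq_zero.mp h
      rw [map_sub, sub_eq_zero, map_add, toBC_map, map_smul, map_one,
        ← algebraMap_smul (Localization.AtPrime q.asIdeal) s] at h'
      rw [map_smul, eq_sub_iff_add_eq, ← smul_add]
      show si • (cmap (gp q) (hgp q) _ + _) = _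
      rw [h', smul_smul, hsi, one_smul]
  have hUo : IsOpen U := isOpen_iff_forall_mem_open.mpr fun p hp => by
    obtain ⟨O, hO, hpO, h, -⟩ := hopen p; exact ⟨O, h hp, hO, hpO⟩
  have hVo : IsOpen V := isOpen_iff_forall_mem_open.mpr fun p hp => by
    obtain ⟨O, hO, hpO, -, h⟩ := hopen p; exact ⟨O, h hp, hO, hpO⟩
  have hcompl : Uᶜ = V := Set.ext fun p => ⟨fun h => (hcover p).resolve_left h, fun h hU => hdisj p hU h⟩
  have hclopen : IsClopen U := ⟨⟨hcompl ▸ hVo⟩, hUo⟩
  rcases isClopen_iff.mp hclopen with hU | hU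
  · refine sub_eq_zero.mp (eq_zero_of_forall_atPrime fun p hp => ?_)
    obtain ⟨η, hη⟩ := exists_eta_atPrime b hQ p
    have hV : (⟨p, hp⟩ : PrimeSpectrum R) ∈ V := (hcover _).resolve_left (by simp [hU])
    have := det_of_skew (b.baseChange (Localization.AtPrime p)) (isRegular_baseChange _ _ b hQ) hη
      _ (baseChange_mem_O _ Q g hg) (even_two_mul k) (hV η hη)
    rw [det_baseChange_eq b p g] at this
    rw [map_sub, this, map_neg, map_one, sub_self]
  · exact absurd (isDicksonTrivial_of_fixed_atPrime b hk hQ g hg fun p hp => by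
      obtain ⟨η, hη⟩ := exists_eta_atPrime b hQ p
      exact ⟨η, hη, (hU ▸ Set.mem_univ (⟨p, hp⟩ : PrimeSpectrum R) : (⟨p, hp⟩ : PrimeSpectrum R) ∈ U) η hη⟩) hD

/-- A unit normalising the module is locally homogeneous. -/
theorem isLocHomog_of_conj (u : (CliffordAlgebra Q)ˣ)
    (hu : ∀ v, (u : CliffordAlgebra Q) * ι Q v = ι Q (g v) * u) (hg' : g ∈ QuadGrp.O Q) :
    QuadGrp.IsLocHomog Q (u : CliffordAlgebra Q) := by
  obtain ⟨u0, h0, u1, h1, hsum⟩ := exists_decomp (u : CliffordAlgebra Q)
  let I0 := LinearMap.ker (LinearMap.toSpanSingleton R (CliffordAlgebra Q) u1)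
  let I1 := LinearMap.ker (LinearMap.toSpanSingleton R (CliffordAlgebra Q) u0)
  have htop : I0 ⊔ I1 = ⊤ := by
    by_contra hne
    obtain ⟨p, hp, hle⟩ := Ideal.exists_le_maximal _ hne
    haveI := hp.isPrime
    obtain ⟨η, hη⟩ := exists_eta_atPrime b hQ p
    rcases homogeneous_of_unit (b.baseChange (Localization.AtPrime p)) (isRegular_baseChange _ _ b hQ) hη _
      (by omega) (toBC _ Q (u : CliffordAlgebra Q))
      (baseChange_conj p g _ hu) (baseChange_mem_O _ Q g hg') with h | h
    · obtain ⟨s, hs, hsx⟩ := exists_smul_eq_zero (Localization.AtPrime p) Q p.primeCompl (x := u1)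
        (decomp_unique (toBC_mem_evenOdd _ _ h0) h (toBC_mem_evenOdd _ _ h1) (Submodule.zero_mem _)
          (by rw [add_zero, ← map_add, hsum])).2
      exact hs (hle (Submodule.mem_sup_left (show s ∈ I0 by simpa [I0] using hsx)))
    · obtain ⟨s, hs, hsx⟩ := exists_smul_eq_zero (Localization.AtPrime p) Q p.primeCompl (x := u0)
        (decomp_unique (toBC_mem_evenOdd _ _ h0) (Submodule.zero_mem _) (toBC_mem_evenOdd _ _ h1) h
          (by rw [zero_add, ← map_add, hsum])).1
      exact hs (hle (Submodule.mem_sup_right (show s ∈ I1 by simpa [I1] using hsx)))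
  obtain ⟨e, he, f, hf, hef⟩ := Submodule.mem_sup.mp (htop ▸ Submodule.mem_top : (1 : R) ∈ I0 ⊔ I1)
  have he' : e • u1 = 0 := by simpa [I0] using he
  have hf' : f • u0 = 0 := by simpa [I1] using hf
  have hkill : (e * f) • (u : CliffordAlgebra Q) = 0 := by
    rw [← hsum, smul_add, mul_comm, mul_smul, mul_smul, he', smul_zero, add_zero, smul_comm, hf', smul_zero]
  have hef0 : e * f = 0 := by
    refine algebraMap_injective (Q := Q) b ?_
    rw [map_zero, Algebra.algebraMap_eq_smul_one, ← Units.mul_inv u, ← smul_mul_assoc, hkill, zero_mul]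
  refine ⟨e, ?_, ?_, ?_⟩
  · show e * e = e
    linear_combination e * hef - hef0
  · rw [← hsum, smul_add, he', add_zero]; exact Submodule.smul_mem _ _ h0
  · rw [show 1 - e = f by linear_combination -hef, ← hsum, smul_add, hf', zero_add]
    exact Submodule.smul_mem _ _ h1

end Global

end QuadCliff
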