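import Mathlib.LinearAlgebra.CliffordAlgebra.Contraction
import Mathlib.LinearAlgebra.ExteriorAlgebra.Basis
import Mathlib.Tactic

/-! Multiplications and contractions generate the endomorphisms of an exterior algebra. -/

namespace QuadCliff

open CliffordAlgebra

universe u v

variable {R : Type u} [CommRing R] {M : Type v} [AddCommGroup M] [Module R M] {ι' : Type*}

local notation "E" => ExteriorAlgebra R M

/-- Contraction on the exterior algebra. -/
noncomputable abbrev dL (d : Module.Dual R M) : E →ₗ[R] E :=
  contractLeft (R := R) (M := M) (Q := 0) d

/-- The algebra map killing the vector `b`. -/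
noncomputable def killMap (b : M) (d : Module.Dual R M) : E →ₐ[R] E :=
  ExteriorAlgebra.map (LinearMap.id - d.smulRight b)

theorem sub_killMap {b : M} {d : Module.Dual R M} (x : E) :
    x - killMap b d x = ExteriorAlgebra.ι R b * dL d x := by
  induction x using CliffordAlgebra.left_induction with
  | algebraMap r => rw [dL, contractLeft_algebraMap, mul_zero, AlgHom.commutes, sub_self]
  | add x y hx hy => rw [map_add, map_add, mul_add, ← hx, ← hy]; abel
  | ι_mul y a ih =>
    have hk : killMap b d (CliffordAlgebra.ι 0 a) = ExteriorAlgebra.ι R a - d a • ExteriorAlgebra.ι R b := by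
      show ExteriorAlgebra.map _ (ExteriorAlgebra.ι R a) = _
      rw [ExteriorAlgebra.map_apply_ι]
      simp [LinearMap.smulRight_apply]
    rw [map_mul, hk, dL, contractLeft_ι_mul]
    change ExteriorAlgebra.ι R a * y - _ = _ * (d a • y - ExteriorAlgebra.ι R a * dL d y)
    have hba : ExteriorAlgebra.ι R b * ExteriorAlgebra.ι R a = -(ExteriorAlgebra.ι R a * ExteriorAlgebra.ι R b) :=
      eq_neg_of_add_eq_zero_left (ExteriorAlgebra.ι_add_mul_swap b a)
    have hbb : ExteriorAlgebra.ι R b * killMap b d y = ExteriorAlgebra.ι R b * y := by
      have := congrArg (ExteriorAlgebra.ι R b * ·) ih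
      simp only [mul_sub, ← mul_assoc, ExteriorAlgebra.ι_sq_zero, zero_mul] at this
      exact (sub_eq_zero.mp this).symm
    rw [mul_sub, ← mul_assoc, hba, neg_mul, mul_assoc, ← ih, mul_smul_comm, sub_mul, smul_mul_assoc, hbb,
      mul_sub]
    abel

theorem dL_killMap_eq {b : M} {d : Module.Dual R M} (h : d b = 1) (x : E) :
    killMap b d (dL d x) = dL d x := by
  have := sub_killMap (b := b) (d := d) (dL d x)
  rw [show dL d (dL d x) = 0 from contractLeft_contractLeft _ x, mul_zero, sub_eq_zero] at this
  exact this.symm

variable [Fintype ι'] [DecidableEq ι'] (b : Module.Basis ι' R M)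

/-- The composite of the maps killing the basis vectors in `l`. -/
noncomputable def killList : List ι' → (E →ₐ[R] E)
  | [] => AlgHom.id R E
  | i :: l => (killList l).comp (killMap (b i) (b.coord i))

theorem killList_eq (l : List ι') :
    killList b l = ExteriorAlgebra.map (b.constr ℕ fun i => if i ∈ l then 0 else b i) := by
  induction l with
  | nil =>
    have : (b.constr ℕ fun i => if i ∈ ([] : List ι') then 0 else b i) = LinearMap.id :=
      b.ext fun i => by simp
    rw [this, ExteriorAlgebra.map_id]; rfl
  | cons a l ih =>
    rw [killList, ih, killMap, ExteriorAlgebra.map_comp_map]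
    congr 1
    refine b.ext fun i => ?_
    rw [LinearMap.comp_apply, Module.Basis.constr_basis, LinearMap.sub_apply, LinearMap.id_apply,
      LinearMap.smulRight_apply, Module.Basis.coord_apply, Module.Basis.repr_self, map_sub, map_smul,
      Module.Basis.constr_basis, Module.Basis.constr_basis]
    by_cases hia : i = a
    · subst hia; simp
    · simp [hia, Ne.symm hia]

theorem killList_univ (l : List ι') (hl : ∀ i, i ∈ l) (x : E) :
    killList b l x = algebraMap R E (ExteriorAlgebra.algebraMapInv x) := by
  have : killList b l = (Algebra.ofId R E).comp ExteriorAlgebra.algebraMapInv := by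
    rw [killList_eq]
    refine ExteriorAlgebra.hom_ext (LinearMap.ext fun m => ?_)
    have : (b.constr ℕ fun i => if i ∈ l then 0 else b i) = 0 := b.ext fun i => by
      rw [Module.Basis.constr_basis, if_pos (hl i), LinearMap.zero_apply]
    simp [this, ExteriorAlgebra.algebraMapInv]
  rw [this]; rfl

theorem eq_algebraMap_of_dL_eq_zero (x : E) (h : ∀ i, dL (b.coord i) x = 0) :
    x = algebraMap R E (ExteriorAlgebra.algebraMapInv x) := by
  rw [← killList_univ b Finset.univ.toList (fun i => by simp)]
  induction (Finset.univ.toList : List ι') with
  | nil => rfl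
  | cons a l ih =>
    rw [killList, AlgHom.comp_apply]
    have := sub_killMap (b := b a) (d := b.coord a) x
    rw [h, mul_zero, sub_eq_zero] at this
    rw [← this]; exact ih

include b in
/-- A subalgebra of endomorphisms containing the exterior multiplications and the contractions is everything. -/
theorem endSubalgebra_eq_top (S : Subalgebra R (Module.End R E))
    (hL : ∀ m, LinearMap.mulLeft R (ExteriorAlgebra.ι R m) ∈ S)
    (hD : ∀ d, dL d ∈ S) : S = ⊤ := by
  classical
  have hmul : ∀ x : E, LinearMap.mulLeft R x ∈ S := by
    intro x
    induction x using CliffordAlgebra.left_induction with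
    | algebraMap r =>
      have : LinearMap.mulLeft R (algebraMap R E r) = algebraMap R (Module.End R E) r := by
        refine LinearMap.ext fun y => ?_
        rw [LinearMap.mulLeft_apply, Module.algebraMap_end_apply, Algebra.smul_def]
      rw [show algebraMap R (CliffordAlgebra (0 : QuadraticForm R M)) r = algebraMap R E r from rfl, this]
      exact S.algebraMap_mem r
    | add x y hx hy =>
      have : LinearMap.mulLeft R (x + y) = LinearMap.mulLeft R x + LinearMap.mulLeft R y :=
        LinearMap.ext fun z => add_mul x y z
      rw [this]; exact S.add_mem hx hy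
    | ι_mul y a ih =>
      rw [LinearMap.mulLeft_mul]
      exact S.mul_mem (hL a) ih
  have hkill : ∀ l : List ι', (killList b l).toLinearMap ∈ S := by
    intro l
    induction l with
    | nil => exact S.one_mem
    | cons a l ih =>
      have : (killMap (b a) (b.coord a)).toLinearMap =
          1 - LinearMap.mulLeft R (ExteriorAlgebra.ι R (b a)) * dL (b.coord a) := by
        refine LinearMap.ext fun x => ?_
        have := sub_killMap (b := b a) (d := b.coord a) x
        simp [← this]
      rw [show (killList b (a :: l)).toLinearMap =
        (killList b l).toLinearMap * (killMap (b a) (b.coord a)).toLinearMap from rfl, this]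
      exact S.mul_mem ih (S.sub_mem S.one_mem (S.mul_mem (hL _) (hD _)))
  -- every operator factoring through `killList univ` is in `S`
  refine eq_top_iff.mpr fun A _ => ?_
  suffices h : ∀ l : List ι', l.Nodup → ∀ A : Module.End R E, (∀ c ∈ S, A * (killList b l).toLinearMap * c ∈ S) by
    have h0 := h [] List.nodup_nil A 1 S.one_mem
    rwa [show (killList b ([] : List ι')).toLinearMap = 1 from rfl, mul_one, mul_one] at h0
  intro l hl
  induction hn : Fintype.card ι' - l.length generalizing l with
  | zero =>
    intro A c hc
    have hall : ∀ i, i ∈ l := by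
      intro i
      by_contra hi
      have h1 := (List.nodup_cons.mpr ⟨hi, hl⟩).length_le_card
      simp at h1; omega
    have : A * (killList b l).toLinearMap = LinearMap.mulLeft R (A 1) * (killList b l).toLinearMap := by
      refine LinearMap.ext fun x => ?_
      simp only [Module.End.mul_apply, AlgHom.toLinearMap_apply, killList_univ b l hall,
        LinearMap.mulLeft_apply]
      rw [Algebra.algebraMap_eq_smul_one, map_smul, mul_smul_comm, mul_one]
    rw [this]
    exact S.mul_mem (S.mul_mem (hmul _) (hkill l)) hc
  | succ k ih =>
    intro A c hc
    obtain ⟨i, hi⟩ : ∃ i, i ∉ l := by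
      by_contra hall
      push Not at hall
      have := List.toFinset_card_of_nodup hl
      rw [show l.toFinset = Finset.univ from Finset.eq_univ_of_forall (by simpa using hall),
        Finset.card_univ] at this
      omega
    have key : (killList b l).toLinearMap = (killList b (i :: l)).toLinearMap +
        LinearMap.mulLeft R (ExteriorAlgebra.ι R (b i)) * (killList b (i :: l)).toLinearMap * dL (b.coord i) := by
      refine LinearMap.ext fun x => ?_
      have hx := sub_killMap (b := b i) (d := b.coord i) x
      have hfix : killList b l (ExteriorAlgebra.ι R (b i)) = ExteriorAlgebra.ι R (b i) := by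
        rw [killList_eq, ExteriorAlgebra.map_apply_ι, Module.Basis.constr_basis, if_neg hi]
      simp only [killList, LinearMap.add_apply, Module.End.mul_apply, AlgHom.toLinearMap_apply,
        AlgHom.comp_apply, LinearMap.mulLeft_apply, dL_killMap_eq (b := b i) (d := b.coord i) (by simp)]
      conv_rhs => rw [← hfix, ← map_mul, ← map_add, ← hx]
      simp
    have ih' := ih (i :: l) (List.nodup_cons.mpr ⟨hi, hl⟩) (by simp; omega)
    rw [key, mul_add, add_mul]
    refine S.add_mem (ih' A c hc) ?_
    have h2 := ih' (A * LinearMap.mulLeft R (ExteriorAlgebra.ι R (b i))) (dL (b.coord i) * c)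
      (S.mul_mem (hD _) hc)
    simpa only [mul_assoc] using h2

end QuadCliff
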