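import Groth.Prelude.Def_QuadGrp
import Groth.Agent.QuadCliff.Ext
import Mathlib.Algebra.Azumaya.Defs
import Mathlib.Tactic

/-! Basic structure of the Clifford algebra of a free quadratic module with perfect polar form. -/

namespace QuadCliff

open CliffordAlgebra

universe u v

variable {R : Type u} [CommRing R] {M : Type v} [AddCommGroup M] [Module R M] {Q : QuadraticForm R M}

local notation "D" => contractLeft (R := R) (M := M) (Q := Q)

theorem ι_mul_sub (v : M) (x : (CliffordAlgebra Q)) :
    ι Q v * x - involute x * ι Q v = D (QuadraticMap.polarBilin Q v) x := by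
  induction x using CliffordAlgebra.left_induction with
  | algebraMap r => rw [AlgHom.commutes, contractLeft_algebraMap, Algebra.commutes, sub_self]
  | add x y hx hy => rw [map_add, map_add, mul_add, add_mul, ← hx, ← hy]; abel
  | ι_mul y a ih =>
    rw [contractLeft_ι_mul, map_mul, involute_ι, ← ih]
    have h : ι Q v * ι Q a = QuadraticMap.polarBilin Q v a • (1 : (CliffordAlgebra Q)) - ι Q a * ι Q v := by
      rw [eq_sub_iff_add_eq, ι_mul_ι_add_swap, Algebra.algebraMap_eq_smul_one]; rfl
    rw [← mul_assoc, h, sub_mul, smul_mul_assoc, one_mul, mul_sub, mul_assoc, mul_assoc]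
    simp only [neg_mul]
    abel

section Basis

variable {n : ℕ} (b : Module.Basis (Fin n) R M)

include b

theorem exists_toExterior :
    ∃ (B : LinearMap.BilinMap R M R), B.toQuadraticMap = (0 : QuadraticForm R M) - Q := by
  haveI := Module.Free.of_basis b
  exact LinearMap.BilinMap.toQuadraticMap_surjective _

theorem algebraMap_injective : Function.Injective (algebraMap R (CliffordAlgebra Q)) := by
  obtain ⟨B, hB⟩ := exists_toExterior (Q := Q) b
  intro r s h
  have := congrArg (changeForm hB) h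
  rw [changeForm_algebraMap, changeForm_algebraMap] at this
  exact (ExteriorAlgebra.algebraMap_leftInverse M).injective this

theorem ι_injective : Function.Injective (ι Q) := by
  obtain ⟨B, hB⟩ := exists_toExterior (Q := Q) b
  intro r s h
  have := congrArg (changeForm hB) h
  rw [changeForm_ι, changeForm_ι] at this
  exact (ExteriorAlgebra.ι_inj R r s).mp this

theorem free_finite : Module.Free R (CliffordAlgebra Q) ∧ Module.Finite R (CliffordAlgebra Q) := by
  obtain ⟨B, hB⟩ := exists_toExterior (Q := Q) b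
  let e : Module.Basis (Finset (Fin n)) R (CliffordAlgebra Q) :=
    b.ExteriorAlgebra.map (changeFormEquiv hB).symm
  exact ⟨Module.Free.of_basis e, Module.Finite.of_basis e⟩

theorem contract_sum (d : Module.Dual R M) (x : (CliffordAlgebra Q)) :
    D d x = ∑ i, d (b i) • D (b.coord i) x := by
  calc D d x = D (∑ i, d (b i) • b.coord i) x := by rw [b.sum_dual_apply_smul_coord]
    _ = _ := by simp only [map_sum, map_smul, LinearMap.sum_apply, LinearMap.smul_apply]

theorem eq_algebraMap_of_contract (x : (CliffordAlgebra Q)) (h : ∀ i, D (b.coord i) x = 0) :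
    ∃ r, x = algebraMap R (CliffordAlgebra Q) r := by
  obtain ⟨B, hB⟩ := exists_toExterior (Q := Q) b
  refine ⟨ExteriorAlgebra.algebraMapInv (changeForm hB x), (changeFormEquiv hB).injective ?_⟩
  show changeForm hB x = changeForm hB _
  rw [changeForm_algebraMap]
  refine eq_algebraMap_of_dL_eq_zero b _ fun i => ?_
  show contractLeft (b.coord i) (changeForm hB x) = 0
  rw [← changeForm_contractLeft, h, map_zero]

variable (hQ : QuadGrp.IsRegular Q)

include hQ

theorem eq_algebraMap_of_superCentral (x : (CliffordAlgebra Q)) (h : ∀ v, ι Q v * x = involute x * ι Q v) :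
    ∃ r, x = algebraMap R (CliffordAlgebra Q) r := by
  refine eq_algebraMap_of_contract b x fun i => ?_
  obtain ⟨v, hv⟩ := hQ.2 (b.coord i)
  rw [← hv, ← ι_mul_sub, h, sub_self]

/-- A partition of unity by values of the form. -/
theorem exists_sum_eq_one (hn : 0 < n) :
    ∃ (r : Fin 3 → R) (v : Fin 3 → M), ∑ i, r i * Q (v i) = 1 := by
  obtain ⟨v, hv⟩ := hQ.2 (b.coord ⟨0, hn⟩)
  refine ⟨![1, -1, -1], ![v + b ⟨0, hn⟩, v, b ⟨0, hn⟩], ?_⟩
  have h := LinearMap.congr_fun hv (b ⟨0, hn⟩)
  rw [QuadraticMap.polarBilin_apply_apply, QuadraticMap.polar, Module.Basis.coord_apply,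
    Module.Basis.repr_self, Finsupp.single_eq_same] at h
  simp [Fin.sum_univ_three]
  linear_combination h

theorem eq_zero_of_mul_ι (hn : 0 < n) (c : (CliffordAlgebra Q)) (h : ∀ v, c * ι Q v = 0) : c = 0 := by
  obtain ⟨r, v, hv⟩ := exists_sum_eq_one b hQ hn
  calc c = c * algebraMap R (CliffordAlgebra Q) (∑ i, r i * Q (v i)) := by rw [hv, map_one, mul_one]
    _ = ∑ i, r i • (c * ι Q (v i) * ι Q (v i)) := by
      rw [map_sum, Finset.mul_sum]
      refine Finset.sum_congr rfl fun i _ => ?_
      rw [mul_assoc, ι_sq_scalar, Algebra.smul_def, map_mul, Algebra.left_comm]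
    _ = 0 := by simp [h]

end Basis

/-- `η` generates the centre of the even part. -/
structure IsEta (η : (CliffordAlgebra Q)) : Prop where
  mem : η ∈ evenOdd Q 0
  rel : ∀ v, ι Q v * η = (1 - η) * ι Q v
  unit : IsUnit (1 - 2 * η)

namespace IsEta

variable {η : (CliffordAlgebra Q)} (hη : IsEta η)

include hη

theorem comm {x : (CliffordAlgebra Q)} (hx : x ∈ evenOdd Q 0) : x * η = η * x := by
  induction x, hx using even_induction with
  | algebraMap r => exact Algebra.commutes r η
  | add x y _ _ hx hy => rw [add_mul, mul_add, hx, hy]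
  | ι_mul_ι_mul v w x _ hx =>
    have h1 : ι Q v * (1 - η) = η * ι Q v := by
      rw [mul_sub, mul_one, hη.rel, sub_mul, one_mul, sub_sub_cancel]
    rw [mul_assoc (ι Q v * ι Q w), hx, ← mul_assoc, mul_assoc (ι Q v) (ι Q w) η, hη.rel, ← mul_assoc,
      h1]
    simp only [mul_assoc]

theorem anticomm {x : (CliffordAlgebra Q)} (hx : x ∈ evenOdd Q 1) : x * η = (1 - η) * x := by
  induction x, hx using odd_induction with
  | ι v => exact hη.rel v
  | add x y _ _ hx hy => rw [add_mul, mul_add, hx, hy]
  | ι_mul_ι_mul v w x _ hx =>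
    have hvw := hη.comm (ι_mul_ι_mem_evenOdd_zero Q v w)
    rw [mul_assoc (ι Q v * ι Q w), hx, ← mul_assoc, mul_sub, mul_one, hvw]
    simp [sub_mul, mul_assoc]

theorem z_rel (v : M) : ι Q v * (1 - 2 * η) = -((1 - 2 * η) * ι Q v) := by
  rw [mul_sub, mul_one, show ι Q v * (2 * η) = 2 * (ι Q v * η) by simp only [two_mul, mul_add],
    hη.rel]
  noncomm_ring

variable {n : ℕ} (b : Module.Basis (Fin n) R M) (hQ : QuadGrp.IsRegular Q)

include b hQ

theorem exists_sq : ∃ d, η * η = η - algebraMap R (CliffordAlgebra Q) d := by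
  obtain ⟨r, hr⟩ := eq_algebraMap_of_superCentral b hQ (η * η - η) fun v => by
    rw [map_sub, map_mul, involute_eq_of_mem_even hη.mem, mul_sub, ← mul_assoc, hη.rel, mul_assoc,
      hη.rel]
    noncomm_ring
  exact ⟨-r, by rw [map_neg, sub_neg_eq_add, ← hr]; abel⟩

/-- The centre of the even part is spanned by `1` and `η`. -/
theorem mem_span_of_central (hn : 0 < n) {z : (CliffordAlgebra Q)} (hz : z ∈ evenOdd Q 0)
    (hc : ∀ x ∈ evenOdd Q 0, z * x = x * z) :
    ∃ a c : R, z = algebraMap R (CliffordAlgebra Q) a + c • η := by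
  obtain ⟨r, v, hv⟩ := exists_sum_eq_one b hQ hn
  let z' : (CliffordAlgebra Q) := ∑ i, r i • (ι Q (v i) * z * ι Q (v i))
  have hz' : z' ∈ evenOdd Q 0 := Submodule.sum_mem _ fun i _ => Submodule.smul_mem _ _ (by
    have h1 : ι Q (v i) * z * ι Q (v i) ∈ evenOdd Q (1 + 0 + 1) :=
      SetLike.mul_mem_graded (SetLike.mul_mem_graded (ι_mem_evenOdd_one Q _) hz) (ι_mem_evenOdd_one Q _)
    rwa [show (1 + 0 + 1 : ZMod 2) = 0 by decide] at h1)
  have hone : ∀ y : (CliffordAlgebra Q), ∑ i, r i • (ι Q (v i) * ι Q (v i) * y) = y := fun y => by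
    have h2 : ∀ i, r i • (ι Q (v i) * ι Q (v i) * y) = (r i * Q (v i)) • y := fun i => by
      rw [ι_sq_scalar, ← Algebra.smul_def, smul_smul]
    simp only [h2, ← Finset.sum_smul, hv, one_smul]
  have hl : ∀ w, ι Q w * z = z' * ι Q w := fun w => by
    conv_lhs => rw [← hone (ι Q w * z)]
    rw [Finset.sum_mul]
    refine Finset.sum_congr rfl fun i _ => ?_
    rw [smul_mul_assoc]
    congr 1
    calc ι Q (v i) * ι Q (v i) * (ι Q w * z) = ι Q (v i) * ((ι Q (v i) * ι Q w) * z) := by
          simp only [mul_assoc]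
      _ = ι Q (v i) * (z * (ι Q (v i) * ι Q w)) := by
          rw [hc _ (ι_mul_ι_mem_evenOdd_zero Q _ _)]
      _ = _ := by simp only [mul_assoc]
  have hr : ∀ w, ι Q w * z' = z * ι Q w := fun w => by
    rw [Finset.mul_sum]
    conv_rhs => rw [show z * ι Q w = z * ι Q w * ∑ i, r i • (ι Q (v i) * ι Q (v i) * 1) by rw [hone, mul_one],
      Finset.mul_sum]
    refine Finset.sum_congr rfl fun i _ => ?_
    rw [mul_smul_comm, mul_smul_comm, mul_one]
    congr 1
    calc ι Q w * (ι Q (v i) * z * ι Q (v i)) = (ι Q w * ι Q (v i)) * z * ι Q (v i) := by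
          simp only [mul_assoc]
      _ = z * (ι Q w * ι Q (v i)) * ι Q (v i) := by rw [← hc _ (ι_mul_ι_mem_evenOdd_zero Q _ _)]
      _ = _ := by simp only [mul_assoc]
  -- `z - z'` is a multiple of `1 - 2η`
  obtain ⟨d, hd⟩ := hη.exists_sq b hQ
  set δ : R := 1 - 4 * d
  have hzz : (1 - 2 * η) * (1 - 2 * η) = algebraMap R (CliffordAlgebra Q) δ := by
    simp only [δ, map_sub, map_one, map_mul, map_ofNat]
    calc (1 - 2 * η) * (1 - 2 * η) = 1 - 4 * η + 4 * (η * η) := by noncomm_ring
      _ = _ := by rw [hd]; noncomm_ring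
  have hzev : (1 - 2 * η : (CliffordAlgebra Q)) ∈ evenOdd Q 0 :=
    Submodule.sub_mem _ (SetLike.one_mem_graded _) (by rw [two_mul]; exact Submodule.add_mem _ hη.mem hη.mem)
  obtain ⟨k, hk⟩ := eq_algebraMap_of_superCentral b hQ ((z - z') * (1 - 2 * η)) fun w => by
    rw [map_mul, map_sub, involute_eq_of_mem_even hz, involute_eq_of_mem_even hz',
      involute_eq_of_mem_even hzev, ← mul_assoc, mul_sub (ι Q w), hl, hr]
    rw [show z' * ι Q w - z * ι Q w = -((z - z') * ι Q w) by noncomm_ring, neg_mul, mul_assoc,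
      hη.z_rel, mul_neg, neg_neg, mul_assoc]
  have hδ : IsUnit δ := by
    have hu : IsUnit (algebraMap R (CliffordAlgebra Q) δ) := hzz ▸ hη.unit.mul hη.unit
    obtain ⟨y, hy⟩ := hu.exists_right_inv
    obtain ⟨s, hs⟩ := eq_algebraMap_of_superCentral b hQ y fun w => by
      have hcomm : algebraMap R (CliffordAlgebra Q) δ * (ι Q w * y - involute y * ι Q w) = 0 := by
        have hy' : algebraMap R (CliffordAlgebra Q) δ * involute y = 1 := by
          rw [← AlgHom.commutes (involute (Q := Q)) δ, ← map_mul, hy, map_one]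
        rw [mul_sub, ← mul_assoc, Algebra.commutes δ (ι Q w), mul_assoc, hy, ← mul_assoc, hy', mul_one,
          one_mul, sub_self]
      exact sub_eq_zero.mp ((hzz ▸ hη.unit.mul hη.unit).mul_right_eq_zero.mp hcomm)
    exact IsUnit.of_mul_eq_one s (algebraMap_injective (Q := Q) b (by rw [map_mul, map_one, ← hs, hy]))
  obtain ⟨δi, hδi⟩ := hδ.exists_left_inv
  set c : R := δi * k with hc'
  have hdiff : z - z' = c • (1 - 2 * η) := by
    rw [hc', mul_smul, Algebra.smul_def k, ← hk, mul_assoc, hzz, ← Algebra.commutes, ← Algebra.smul_def,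
      smul_smul, hδi, one_smul]
  obtain ⟨a, ha⟩ := eq_algebraMap_of_superCentral b hQ (z + c • η) fun w => by
    rw [map_add, map_smul, involute_eq_of_mem_even hz, involute_eq_of_mem_even hη.mem, mul_add, hl,
      mul_smul_comm, hη.rel, add_mul, smul_mul_assoc]
    rw [show z' = z - c • (1 - 2 * η) by rw [← hdiff]; abel]
    rw [sub_mul, smul_mul_assoc, sub_mul 1 (2 * η), sub_mul 1 η, one_mul, two_mul, add_mul, smul_sub,
      smul_sub, smul_add]
    abel
  exact ⟨a, -c, by rw [← ha, neg_smul]; abel⟩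

theorem coeff_zero (hn : 0 < n) {a c : R} (h : algebraMap R (CliffordAlgebra Q) a + c • η = 0) : a = 0 ∧ c = 0 := by
  have hz : c • (1 - 2 * η) = 0 := by
    refine eq_zero_of_mul_ι b hQ hn _ fun v => ?_
    have h1 : (algebraMap R (CliffordAlgebra Q) a + c • η) * ι Q v = 0 := by rw [h, zero_mul]
    have h2 : ι Q v * (algebraMap R (CliffordAlgebra Q) a + c • η) = 0 := by rw [h, mul_zero]
    rw [add_mul, smul_mul_assoc] at h1
    rw [mul_add, mul_smul_comm, hη.rel, ← Algebra.commutes] at h2
    have := sub_eq_zero.mpr (h2.trans h1.symm)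
    rw [add_sub_add_left_eq_sub, ← smul_sub] at this
    rw [smul_mul_assoc]
    refine Eq.trans ?_ this
    congr 1; noncomm_ring
  have hc : c = 0 := by
    have := hη.unit.mul_left_eq_zero.mp (show algebraMap R (CliffordAlgebra Q) c * (1 - 2 * η) = 0 by rwa [← Algebra.smul_def])
    exact algebraMap_injective (Q := Q) b (by rw [this, map_zero])
  subst hc
  rw [zero_smul, add_zero] at h
  exact ⟨algebraMap_injective (Q := Q) b (by rw [h, map_zero]), rfl⟩

/-- The centre of the whole Clifford algebra is `R`. -/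
theorem center_eq (x : (CliffordAlgebra Q)) (h : ∀ v, ι Q v * x = x * ι Q v) : ∃ r, x = algebraMap R (CliffordAlgebra Q) r := by
  obtain ⟨x0, h0, x1, h1, rfl⟩ : ∃ x0 ∈ evenOdd Q 0, ∃ x1 ∈ evenOdd Q 1, x0 + x1 = x := by
    have := (evenOdd_isCompl Q).sup_eq_top ▸ (Submodule.mem_top : x ∈ (⊤ : Submodule R (CliffordAlgebra Q)))
    exact Submodule.mem_sup.mp this
  have hall : ∀ y : (CliffordAlgebra Q), y * (x0 + x1) = (x0 + x1) * y := by
    intro y
    induction y using CliffordAlgebra.left_induction with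
    | algebraMap r => exact Algebra.commutes r _
    | add y z hy hz => rw [add_mul, hy, hz, ← mul_add]
    | ι_mul y a ih => rw [mul_assoc, ih, ← mul_assoc, h, mul_assoc]
  have hx1 : x1 = 0 := by
    have := hall η
    rw [mul_add, add_mul, hη.comm h0, hη.anticomm h1, add_right_inj] at this
    exact hη.unit.mul_right_eq_zero.mp
      (show (1 - 2 * η) * x1 = 0 from
        calc (1 - 2 * η) * x1 = (1 - η) * x1 - η * x1 := by noncomm_ring
          _ = 0 := sub_eq_zero.mpr this.symm)
  subst hx1
  rw [add_zero] at h ⊢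
  exact eq_algebraMap_of_superCentral b hQ x0 fun v => by rw [h, involute_eq_of_mem_even h0]

/-- Left and right multiplications give all endomorphisms. -/
theorem mulLeftRight_surjective : Function.Surjective (AlgHom.mulLeftRight R (CliffordAlgebra Q)) := by
  obtain ⟨B, hB⟩ := exists_toExterior (Q := Q) b
  let e := changeFormEquiv hB
  let S : Subalgebra R (Module.End R (ExteriorAlgebra R M)) :=
    (AlgHom.mulLeftRight R (CliffordAlgebra Q)).range.comap (e.conjAlgEquiv R).symm.toAlgHom
  have hmem : ∀ A : Module.End R (ExteriorAlgebra R M), A ∈ S ↔ e.symm.toLinearMap.comp (A.comp e.toLinearMap) ∈ (AlgHom.mulLeftRight R (CliffordAlgebra Q)).range := by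
    intro A
    have : (e.conjAlgEquiv R).symm A = e.symm.toLinearMap.comp (A.comp e.toLinearMap) := by
      rw [AlgEquiv.symm_apply_eq]
      refine LinearMap.ext fun x => ?_
      simp [LinearEquiv.conjAlgEquiv]
    show (e.conjAlgEquiv R).symm A ∈ (AlgHom.mulLeftRight R (CliffordAlgebra Q)).range ↔ _
    rw [this]
  have hL : ∀ a : (CliffordAlgebra Q), LinearMap.mulLeft R a ∈ (AlgHom.mulLeftRight R (CliffordAlgebra Q)).range :=
    fun a => ⟨TensorProduct.tmul R a (MulOpposite.op 1), LinearMap.ext fun x => by simp [AlgHom.mulLeftRight_apply]⟩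
  have hR : ∀ a : (CliffordAlgebra Q), LinearMap.mulRight R a ∈ (AlgHom.mulLeftRight R (CliffordAlgebra Q)).range :=
    fun a => ⟨TensorProduct.tmul R 1 (MulOpposite.op a), LinearMap.ext fun x => by simp [AlgHom.mulLeftRight_apply]⟩
  obtain ⟨zu, hzu⟩ := hη.unit
  have hinv : ∀ x : (CliffordAlgebra Q), involute x = (zu : (CliffordAlgebra Q)) * x * ↑zu⁻¹ := by
    intro x
    induction x using CliffordAlgebra.left_induction with
    | algebraMap r => rw [AlgHom.commutes, ← Algebra.commutes, mul_assoc, Units.mul_inv, mul_one]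
    | add x y hx hy => rw [map_add, mul_add, add_mul, hx, hy]
    | ι_mul y a ih =>
      rw [map_mul, ih, involute_ι]
      have : (zu : (CliffordAlgebra Q)) * ι Q a = -(ι Q a * zu) := by rw [hzu, hη.z_rel, neg_neg]
      rw [← mul_assoc (zu : (CliffordAlgebra Q)), this]
      simp [mul_assoc]
  have hD : ∀ d, D d ∈ (AlgHom.mulLeftRight R (CliffordAlgebra Q)).range := by
    intro d
    obtain ⟨v, rfl⟩ := hQ.2 d
    have : D (QuadraticMap.polarBilin Q v) = LinearMap.mulLeft R (ι Q v) -
        LinearMap.mulRight R (ι Q v) * (LinearMap.mulLeft R (zu : (CliffordAlgebra Q)) * LinearMap.mulRight R (↑zu⁻¹ : (CliffordAlgebra Q))) := by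
      refine LinearMap.ext fun x => ?_
      rw [← ι_mul_sub, hinv]
      simp [mul_assoc]
    rw [this]
    exact Subalgebra.sub_mem _ (hL _) (Subalgebra.mul_mem _ (hR _) (Subalgebra.mul_mem _ (hL _) (hR _)))
  have htop : S = ⊤ := by
    refine endSubalgebra_eq_top b S (fun m => ?_) (fun d => ?_)
    · rw [hmem]
      have : e.symm.toLinearMap.comp ((LinearMap.mulLeft R (ExteriorAlgebra.ι R m)).comp e.toLinearMap) =
          LinearMap.mulLeft R (ι Q m) + D (B m) := by
        refine LinearMap.ext fun x => e.injective ?_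
        simp only [LinearMap.comp_apply, LinearEquiv.coe_coe, LinearEquiv.apply_symm_apply,
          LinearMap.mulLeft_apply, LinearMap.add_apply, map_add]
        show _ = changeForm hB (ι Q m * x) + changeForm hB (D (B m) x)
        rw [changeForm_ι_mul, changeForm_contractLeft, sub_add_cancel]
        rfl
      rw [this]
      exact Subalgebra.add_mem _ (hL _) (hD _)
    · rw [hmem]
      have : e.symm.toLinearMap.comp ((dL d).comp e.toLinearMap) = D d := by
        refine LinearMap.ext fun x => e.injective ?_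
        simp only [LinearMap.comp_apply, LinearEquiv.coe_coe, LinearEquiv.apply_symm_apply]
        exact (changeForm_contractLeft hB d x).symm
      rw [this]
      exact hD d
  intro A
  have hA : e.conjAlgEquiv R A ∈ S := htop ▸ Algebra.mem_top
  have : (e.conjAlgEquiv R).symm (e.conjAlgEquiv R A) ∈ (AlgHom.mulLeftRight R (CliffordAlgebra Q)).range := hA
  rw [AlgEquiv.symm_apply_apply] at this
  exact this

end IsEta

end QuadCliff
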