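import Groth.Agent.QuadCliff.Reg
import Groth.Agent.QuadGrpL.Pf
import Mathlib.RingTheory.Localization.BaseChange
import Mathlib.RingTheory.TensorProduct.Basic
import Mathlib.LinearAlgebra.TensorProduct.Basis
import Mathlib.Tactic

/-! Base change of the Clifford algebra of a free quadratic module. -/

namespace QuadCliff

open CliffordAlgebra TensorProduct

universe u v u'

variable {R : Type u} [CommRing R] {M : Type v} [AddCommGroup M] [Module R M] [Module.Free R M]
  (A : Type u') [CommRing A] [Algebra R A] (Q : QuadraticForm R M)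

theorem baseChangeForm_one_tmul (m : M) :
    QuadGrp.baseChangeForm A Q (1 ⊗ₜ[R] m) = algebraMap R A (Q m) := by
  simp [QuadGrp.baseChangeForm, QuadGrp.baseChange_tmul, Algebra.smul_def]

/-- `C(Q) → C(Q_A)`. -/
noncomputable def toBC : CliffordAlgebra Q →ₐ[R] CliffordAlgebra (QuadGrp.baseChangeForm A Q) :=
  CliffordAlgebra.lift Q <| by
    refine ⟨(ι (QuadGrp.baseChangeForm A Q)).restrictScalars R ∘ₗ TensorProduct.mk R A M 1, fun v => ?_⟩
    refine (CliffordAlgebra.ι_sq_scalar (QuadGrp.baseChangeForm A Q) (1 ⊗ₜ v)).trans ?_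
    rw [baseChangeForm_one_tmul, ← IsScalarTower.algebraMap_apply]

@[simp] theorem toBC_ι (v : M) : toBC A Q (ι Q v) = ι _ ((1 : A) ⊗ₜ[R] v) :=
  CliffordAlgebra.lift_ι_apply _ _ v

theorem baseChange_sq (x : A ⊗[R] M) :
    (ι Q).baseChange A x * (ι Q).baseChange A x =
      algebraMap A (A ⊗[R] CliffordAlgebra Q) (QuadGrp.baseChangeForm A Q x) := by
  let f : A ⊗[R] M →ₗ[A] A ⊗[R] CliffordAlgebra Q := (ι Q).baseChange A
  let Q₁ : QuadraticMap A (A ⊗[R] M) (A ⊗[R] CliffordAlgebra Q) :=
    LinearMap.BilinMap.toQuadraticMap ((LinearMap.mul A (A ⊗[R] CliffordAlgebra Q)).compl₁₂ f f)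
  let Q₂ : QuadraticMap A (A ⊗[R] M) (A ⊗[R] CliffordAlgebra Q) :=
    (Algebra.linearMap A (A ⊗[R] CliffordAlgebra Q)).compQuadraticMap (QuadGrp.baseChangeForm A Q)
  have h : Q₁ = Q₂ := baseChange_ext fun m => by
    show f (1 ⊗ₜ m) * f (1 ⊗ₜ m) = algebraMap A _ (QuadGrp.baseChangeForm A Q (1 ⊗ₜ m))
    rw [baseChangeForm_one_tmul, LinearMap.baseChange_tmul, Algebra.TensorProduct.tmul_mul_tmul, mul_one,
      ι_sq_scalar, Algebra.TensorProduct.algebraMap_apply, Algebra.algebraMap_eq_smul_one,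
      Algebra.algebraMap_eq_smul_one, TensorProduct.tmul_smul, TensorProduct.smul_tmul', algebraMap_smul]
  exact congrArg (fun q => q x) h

/-- `C(Q_A) → A ⊗ C(Q)`. -/
noncomputable def fromBC : CliffordAlgebra (QuadGrp.baseChangeForm A Q) →ₐ[A] A ⊗[R] CliffordAlgebra Q :=
  CliffordAlgebra.lift _ ⟨(ι Q).baseChange A, baseChange_sq A Q⟩

@[simp] theorem fromBC_ι (x : A ⊗[R] M) : fromBC A Q (ι _ x) = (ι Q).baseChange A x :=
  CliffordAlgebra.lift_ι_apply _ _ x

theorem fromBC_toBC (x : CliffordAlgebra Q) : fromBC A Q (toBC A Q x) = 1 ⊗ₜ[R] x := by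
  induction x using CliffordAlgebra.left_induction with
  | algebraMap r =>
    rw [AlgHom.commutes, IsScalarTower.algebraMap_apply R A, AlgHom.commutes,
      Algebra.TensorProduct.algebraMap_apply, Algebra.algebraMap_self, RingHom.id_apply,
      Algebra.algebraMap_eq_smul_one, Algebra.algebraMap_eq_smul_one, TensorProduct.smul_tmul]
  | add x y hx hy => rw [map_add, map_add, hx, hy, tmul_add]
  | ι_mul y a ih =>
    rw [map_mul, map_mul, ih, toBC_ι, fromBC_ι, LinearMap.baseChange_tmul,
      Algebra.TensorProduct.tmul_mul_tmul, one_mul]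

theorem fromBC_injective : Function.Injective (fromBC A Q) := by
  let g : A ⊗[R] CliffordAlgebra Q →ₐ[A] CliffordAlgebra (QuadGrp.baseChangeForm A Q) :=
    Algebra.TensorProduct.lift (Algebra.ofId _ _) (toBC A Q) fun a x => Algebra.commutes _ _
  refine Function.LeftInverse.injective (g := g) fun x => ?_
  rw [← AlgHom.comp_apply]
  refine AlgHom.congr_fun (CliffordAlgebra.hom_ext (f := g.comp (fromBC A Q)) (g := AlgHom.id A _) ?_) x
  refine LinearMap.ext fun y => ?_
  induction y using TensorProduct.induction_on with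
  | zero => simp
  | add y z hy hz => simp only [map_add] at hy hz ⊢; rw [hy, hz]
  | tmul a m =>
    show g (fromBC A Q (ι _ (a ⊗ₜ m))) = ι _ (a ⊗ₜ m)
    rw [fromBC_ι, LinearMap.baseChange_tmul, Algebra.TensorProduct.lift_tmul, toBC_ι]
    show algebraMap A _ a * ι _ _ = _
    rw [← Algebra.smul_def, ← map_smul, TensorProduct.smul_tmul', smul_eq_mul, mul_one]

variable (S : Submonoid R) [IsLocalization S A]

include S in
/-- An element killed in a localisation is killed by an element of the submonoid. -/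
theorem exists_smul_eq_zero {x : CliffordAlgebra Q} (h : toBC A Q x = 0) : ∃ s ∈ S, s • x = 0 := by
  have h1 : TensorProduct.mk R A (CliffordAlgebra Q) 1 x = TensorProduct.mk R A (CliffordAlgebra Q) 1 0 := by
    rw [map_zero, TensorProduct.mk_apply, ← fromBC_toBC A Q x, h, map_zero]
  haveI : IsLocalizedModule S (TensorProduct.mk R A (CliffordAlgebra Q) 1) := inferInstance
  obtain ⟨s, hs⟩ := IsLocalizedModule.exists_of_eq (S := S) (f := TensorProduct.mk R A (CliffordAlgebra Q) 1) h1
  exact ⟨s, s.2, by rw [smul_zero] at hs; exact hs⟩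

include S in
/-- Every element of the localised algebra is a multiple of an element of `C(Q)`. -/
theorem exists_smul_eq (y : CliffordAlgebra (QuadGrp.baseChangeForm A Q)) :
    ∃ x, ∃ s ∈ S, algebraMap R A s • y = toBC A Q x := by
  haveI : IsLocalizedModule S (TensorProduct.mk R A (CliffordAlgebra Q) 1) := inferInstance
  obtain ⟨⟨x, s⟩, hx⟩ := IsLocalizedModule.surj S (TensorProduct.mk R A (CliffordAlgebra Q) 1) (fromBC A Q y)
  refine ⟨x, s, s.2, fromBC_injective A Q ?_⟩
  rw [fromBC_toBC, map_smul, algebraMap_smul]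
  exact hx

theorem toBC_mem_evenOdd {i : ZMod 2} {x : CliffordAlgebra Q} (hx : x ∈ evenOdd Q i) :
    toBC A Q x ∈ evenOdd (QuadGrp.baseChangeForm A Q) i := by
  rcases ((by decide : ∀ j : ZMod 2, j = 0 ∨ j = 1) i) with rfl | rfl
  · induction x, hx using even_induction with
    | algebraMap r =>
      rw [AlgHom.commutes, IsScalarTower.algebraMap_apply R A]
      exact SetLike.algebraMap_mem_graded _ _
    | add x y _ _ hx hy => rw [map_add]; exact Submodule.add_mem _ hx hy
    | ι_mul_ι_mul m₁ m₂ x _ hx =>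
      rw [map_mul, map_mul, toBC_ι, toBC_ι]
      simpa using SetLike.mul_mem_graded (ι_mul_ι_mem_evenOdd_zero _ ((1 : A) ⊗ₜ[R] m₁) (1 ⊗ₜ[R] m₂)) hx
  · induction x, hx using odd_induction with
    | ι v => rw [toBC_ι]; exact ι_mem_evenOdd_one _ _
    | add x y _ _ hx hy => rw [map_add]; exact Submodule.add_mem _ hx hy
    | ι_mul_ι_mul m₁ m₂ x _ hx =>
      rw [map_mul, map_mul, toBC_ι, toBC_ι]
      simpa using SetLike.mul_mem_graded (ι_mul_ι_mem_evenOdd_zero _ ((1 : A) ⊗ₜ[R] m₁) (1 ⊗ₜ[R] m₂)) hx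

theorem baseChange_mem_O (g : M ≃ₗ[R] M) (hg : g ∈ QuadGrp.O Q) :
    g.baseChange R A M M ∈ QuadGrp.O (QuadGrp.baseChangeForm A Q) := by
  have h : (QuadGrp.baseChangeForm A Q).comp (g.baseChange R A M M).toLinearMap = QuadGrp.baseChangeForm A Q :=
    baseChange_ext fun m => by
      show QuadGrp.baseChangeForm A Q (g.baseChange R A M M (1 ⊗ₜ m)) = _
      rw [LinearEquiv.baseChange_tmul, baseChangeForm_one_tmul, baseChangeForm_one_tmul, hg m]
  exact fun x => congrArg (fun q => q x) h

theorem toBC_map (g : M ≃ₗ[R] M) (hg : g ∈ QuadGrp.O Q) (x : CliffordAlgebra Q) :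
    toBC A Q (CliffordAlgebra.map (QuadGrp.isometryOfMem Q g hg) x) =
      CliffordAlgebra.map (QuadGrp.isometryOfMem _ _ (baseChange_mem_O A Q g hg)) (toBC A Q x) := by
  induction x using CliffordAlgebra.left_induction with
  | algebraMap r =>
    rw [AlgHom.commutes, AlgHom.commutes, IsScalarTower.algebraMap_apply R A (CliffordAlgebra (QuadGrp.baseChangeForm A Q)),
      AlgHom.commutes]
  | add x y hx hy => simp only [map_add, hx, hy]
  | ι_mul y a ih =>
    simp only [map_mul, ih, CliffordAlgebra.map_apply_ι, toBC_ι, QuadGrp.isometryOfMem_apply]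
    rw [LinearEquiv.baseChange_tmul]

theorem isRegular_of_isUnit_det {n : ℕ} (b : Module.Basis (Fin n) R M) {q : QuadraticForm R M}
    (h : IsUnit (QuadGrpLib.polarMat b q).det) : QuadGrp.IsRegular q := by
  have h' : IsUnit (LinearMap.toMatrix b b.dualBasis (QuadraticMap.polarBilin q)).det := by
    rw [QuadGrpLib.toMatrix_polarBilin, Matrix.det_transpose]; exact h
  exact (LinearEquiv.ofIsUnitDet h').bijective

theorem isRegular_baseChange {n : ℕ} (b : Module.Basis (Fin n) R M) (hQ : QuadGrp.IsRegular Q) :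
    QuadGrp.IsRegular (QuadGrp.baseChangeForm A Q) := by
  refine isRegular_of_isUnit_det (b.baseChange A) ?_
  have : QuadGrpLib.polarMat (b.baseChange A) (QuadGrp.baseChangeForm A Q) =
      (QuadGrpLib.polarMat b Q).map (algebraMap R A) := by
    ext i j
    simp [QuadGrpLib.polarMat, QuadraticMap.polar, ← TensorProduct.tmul_add, baseChangeForm_one_tmul]
  rw [this, ← RingHom.mapMatrix_apply, ← RingHom.map_det]
  exact (QuadGrpLib.isUnit_det_polarMat b Q hQ).map _

end QuadCliff
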