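import Groth.Agent.QuadCliff.Global
import Mathlib.Tactic

/-! Units normalising the module. -/

namespace QuadCliff

open CliffordAlgebra
open scoped Pointwise

universe u v

variable {R : Type u} [CommRing R] {M : Type v} [AddCommGroup M] [Module R M] {Q : QuadraticForm R M}
  {n : ℕ} (b : Module.Basis (Fin n) R M)

include b

theorem exists_isometry_of_mem_GPin' {u : (CliffordAlgebra Q)ˣ} (hu : u ∈ QuadGrp.GPin' Q) :
    ∃ g : M ≃ₗ[R] M, g ∈ QuadGrp.O Q ∧
      ∀ v, (u : CliffordAlgebra Q) * ι Q v = ι Q (g v) * u := by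
  classical
  have hinj := ι_injective (Q := Q) b
  rw [QuadGrp.mem_GPin'] at hu
  have hmem : ∀ v, (u : CliffordAlgebra Q) * ι Q v * ↑u⁻¹ ∈ LinearMap.range (ι Q) := by
    intro v
    rw [← hu]
    exact ⟨ι Q v, ⟨v, rfl⟩, by simp [ConjAct.units_smul_def]⟩
  have hsurj : ∀ w, ∃ v, (u : CliffordAlgebra Q) * ι Q v * ↑u⁻¹ = ι Q w := by
    intro w
    have h : ι Q w ∈ ConjAct.toConjAct u • LinearMap.range (ι Q) := by rw [hu]; exact ⟨w, rfl⟩
    obtain ⟨_, ⟨v, rfl⟩, hv⟩ := h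
    exact ⟨v, by rw [← hv]; simp [ConjAct.units_smul_def]⟩
  choose f hf using hmem
  let l : M →ₗ[R] M :=
    { toFun := f
      map_add' := fun x y => hinj (by rw [map_add, hf, hf, hf, map_add, mul_add, add_mul])
      map_smul' := fun r x => hinj (by
        rw [RingHom.id_apply, map_smul, hf, hf, map_smul, mul_smul_comm, smul_mul_assoc]) }
  have hbij : Function.Bijective l := by
    refine ⟨fun x y h => hinj ?_, fun w => ?_⟩
    · have := congrArg (ι Q) h
      rw [show ι Q (l x) = _ from hf x, show ι Q (l y) = _ from hf y] at this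
      exact u.isUnit.mul_left_cancel (u⁻¹.isUnit.mul_right_cancel this)
    · obtain ⟨v, hv⟩ := hsurj w
      exact ⟨v, hinj (by rw [show ι Q (l v) = _ from hf v, hv])⟩
  have hconj : ∀ v, (u : CliffordAlgebra Q) * ι Q v = ι Q (l v) * u := fun v => by
    rw [show ι Q (l v) = _ from hf v, Units.inv_mul_cancel_right]
  refine ⟨LinearEquiv.ofBijective l hbij, fun v => algebraMap_injective (Q := Q) b ?_, hconj⟩
  rw [← ι_sq_scalar, ← ι_sq_scalar]
  show ι Q (l v) * ι Q (l v) = _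
  rw [show ι Q (l v) = _ from hf v]
  calc (u : CliffordAlgebra Q) * ι Q v * ↑u⁻¹ * ((u : CliffordAlgebra Q) * ι Q v * ↑u⁻¹)
      = (u : CliffordAlgebra Q) * (ι Q v * ι Q v) * ↑u⁻¹ := by simp only [mul_assoc, Units.inv_mul_cancel_left]
    _ = _ := by rw [ι_sq_scalar, ← Algebra.commutes, mul_assoc, Units.mul_inv, mul_one]

omit b in
theorem mem_GPin'_of_conj {u : (CliffordAlgebra Q)ˣ} (g : M ≃ₗ[R] M)
    (h : ∀ v, (u : CliffordAlgebra Q) * ι Q v = ι Q (g v) * u) : u ∈ QuadGrp.GPin' Q := by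
  rw [QuadGrp.mem_GPin']
  refine SetLike.ext fun x => ⟨?_, ?_⟩
  · rintro ⟨_, ⟨v, rfl⟩, rfl⟩
    refine ⟨g v, ?_⟩
    simp [ConjAct.units_smul_def, h, mul_assoc]
  · rintro ⟨w, rfl⟩
    exact ⟨ι Q (g.symm w), ⟨g.symm w, rfl⟩, by simp [ConjAct.units_smul_def, h, mul_assoc]⟩

end QuadCliff
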