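import Groth.Agent.QuadCliff.Reg
import Mathlib.LinearAlgebra.Determinant
import Mathlib.RingTheory.LocalRing.ResidueField.Basic
import Mathlib.RingTheory.OrzechProperty
import Mathlib.Tactic

/-! Isometries acting on the Clifford algebra: Dickson idempotent, inner realisation, determinant. -/

namespace QuadCliff

open CliffordAlgebra

universe u v

variable {R : Type u} [CommRing R] {M : Type v} [AddCommGroup M] [Module R M] {Q : QuadraticForm R M}

local notation "D" => contractLeft (R := R) (M := M) (Q := Q)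

/-- The automorphism induced by an isometry. -/
noncomputable abbrev cmap (g : M ≃ₗ[R] M) (hg : g ∈ QuadGrp.O Q) :
    CliffordAlgebra Q →ₐ[R] CliffordAlgebra Q :=
  CliffordAlgebra.map (QuadGrp.isometryOfMem Q g hg)

theorem cmap_ι (g : M ≃ₗ[R] M) (hg : g ∈ QuadGrp.O Q) (v : M) : cmap g hg (ι Q v) = ι Q (g v) :=
  map_apply_ι _ v

theorem cmap_comp (g h : M ≃ₗ[R] M) (hg : g ∈ QuadGrp.O Q) (hh : h ∈ QuadGrp.O Q)
    (x : CliffordAlgebra Q) :
    cmap g hg (cmap h hh x) = cmap (g * h) ((QuadGrp.O Q).mul_mem hg hh) x := by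
  rw [← AlgHom.comp_apply]
  congr 1
  refine CliffordAlgebra.hom_ext (LinearMap.ext fun v => ?_)
  simp [cmap, QuadGrp.isometryOfMem]

theorem cmap_involute (g : M ≃ₗ[R] M) (hg : g ∈ QuadGrp.O Q) (x : CliffordAlgebra Q) :
    cmap g hg (involute x) = involute (cmap g hg x) := by
  rw [← AlgHom.comp_apply, ← AlgHom.comp_apply]
  congr 1
  refine CliffordAlgebra.hom_ext (LinearMap.ext fun v => ?_)
  simp [cmap]

theorem cmap_mem_evenOdd (g : M ≃ₗ[R] M) (hg : g ∈ QuadGrp.O Q) {i : ZMod 2} {x : CliffordAlgebra Q}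
    (hx : x ∈ evenOdd Q i) : cmap g hg x ∈ evenOdd Q i := by
  rcases ((by decide : ∀ j : ZMod 2, j = 0 ∨ j = 1) i) with rfl | rfl
  · induction x, hx using even_induction with
    | algebraMap r => rw [AlgHom.commutes]; exact SetLike.algebraMap_mem_graded _ _
    | add x y _ _ hx hy => rw [map_add]; exact Submodule.add_mem _ hx hy
    | ι_mul_ι_mul m₁ m₂ x _ hx =>
      rw [map_mul, map_mul, cmap_ι, cmap_ι]
      simpa using SetLike.mul_mem_graded (ι_mul_ι_mem_evenOdd_zero Q (g m₁) (g m₂)) hx
  · induction x, hx using odd_induction with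
    | ι v => rw [cmap_ι]; exact ι_mem_evenOdd_one Q _
    | add x y _ _ hx hy => rw [map_add]; exact Submodule.add_mem _ hx hy
    | ι_mul_ι_mul m₁ m₂ x _ hx =>
      rw [map_mul, map_mul, cmap_ι, cmap_ι]
      simpa using SetLike.mul_mem_graded (ι_mul_ι_mem_evenOdd_zero Q (g m₁) (g m₂)) hx

namespace IsEta

variable {η : CliffordAlgebra Q} (hη : IsEta η) {n : ℕ} (b : Module.Basis (Fin n) R M)
  (hQ : QuadGrp.IsRegular Q)

include hη

theorem map (g : M ≃ₗ[R] M) (hg : g ∈ QuadGrp.O Q) : IsEta (cmap g hg η) where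
  mem := cmap_mem_evenOdd g hg hη.mem
  rel v := by
    have := congrArg (cmap g hg) (hη.rel (g.symm v))
    rwa [map_mul, map_mul, map_sub, map_one, cmap_ι, LinearEquiv.apply_symm_apply] at this
  unit := by
    have := hη.unit.map (cmap g hg)
    rwa [map_sub, map_one, map_mul, map_ofNat] at this

/-- `η` commutes with all of the even part. -/
theorem mem_center : (⟨η, hη.mem⟩ : CliffordAlgebra.even Q) ∈
    Subalgebra.center R (CliffordAlgebra.even Q) := by
  rw [Subalgebra.mem_center_iff]
  intro x
  exact Subtype.ext (hη.comm x.2)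

include b hQ

theorem exists_idem (hn : 0 < n) (g : M ≃ₗ[R] M) (hg : g ∈ QuadGrp.O Q) :
    ∃ e : R, IsIdempotentElem e ∧ cmap g hg η = algebraMap R _ e + (1 - 2 * e) • η := by
  have h' := hη.map g hg
  obtain ⟨a, c, hac⟩ := hη.mem_span_of_central b hQ hn h'.mem
    fun x hx => (h'.comm hx).symm
  have hc : c = 1 - 2 * a := by
    have h1 : (2 * a + c - 1) • (1 : CliffordAlgebra Q) = 0 := by
      refine eq_zero_of_mul_ι b hQ hn _ fun v => ?_
      have h2 := h'.rel v
      rw [hac, mul_add, mul_smul_comm, hη.rel, ← Algebra.commutes, Algebra.algebraMap_eq_smul_one] at h2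
      simp only [smul_mul_assoc, one_mul, sub_mul, add_mul, smul_sub] at h2
      rw [smul_mul_assoc, one_mul, sub_smul, add_smul, two_mul, add_smul, one_smul]
      rw [← sub_eq_zero] at h2
      rw [← h2]
      abel
    have : algebraMap R (CliffordAlgebra Q) (2 * a + c - 1) = 0 := by rwa [Algebra.algebraMap_eq_smul_one]
    have := algebraMap_injective (Q := Q) b (this.trans (map_zero _).symm)
    linear_combination this
  obtain ⟨d, hd⟩ := hη.exists_sq b hQ
  -- both `η` and its image satisfy `X² - X + d = 0`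
  have hd' : cmap g hg η * cmap g hg η = cmap g hg η - algebraMap R _ d := by
    rw [← map_mul, hd, map_sub, AlgHom.commutes]
  rw [hac, hc] at hd'
  have hz : (1 - 2 * η) * (1 - 2 * η) = algebraMap R (CliffordAlgebra Q) (1 - 4 * d) := by
    simp only [map_sub, map_one, map_mul, map_ofNat]
    calc (1 - 2 * η) * (1 - 2 * η) = 1 - 4 * η + 4 * (η * η) := by noncomm_ring
      _ = _ := by rw [hd]; noncomm_ring
  have he : algebraMap R (CliffordAlgebra Q) ((a * a - a) * (1 - 4 * d)) = 0 := by
    rw [← sub_eq_zero] at hd'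
    rw [← hd']
    simp only [mul_add, add_mul, smul_mul_assoc, mul_smul_comm, ← Algebra.commutes _ η, hd, smul_sub,
      ← Algebra.smul_def, smul_smul, Algebra.algebraMap_eq_smul_one, one_mul, mul_one]
    module
  have hu : IsUnit (algebraMap R (CliffordAlgebra Q) (1 - 4 * d)) := hz ▸ hη.unit.mul hη.unit
  rw [map_mul] at he
  have := algebraMap_injective (Q := Q) b ((hu.mul_left_eq_zero.mp he).trans (map_zero _).symm)
  exact ⟨a, sub_eq_zero.mp this, by rw [hac, hc]⟩

/-- An endomorphism of the Clifford algebra is inner, over a local ring. -/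
theorem exists_unit_algHom [IsLocalRing R] (θ : CliffordAlgebra Q →ₐ[R] CliffordAlgebra Q) :
    ∃ u : (CliffordAlgebra Q)ˣ, ∀ x, (u : CliffordAlgebra Q) * x = θ x * u := by
  classical
  obtain ⟨hfree, hfin⟩ := free_finite (Q := Q) b
  let Φ := AlgHom.mulLeftRight R (CliffordAlgebra Q)
  have hΦ : Function.Bijective Φ := by
    have hsurj := hη.mulLeftRight_surjective b hQ
    refine ⟨?_, hsurj⟩
    haveI : Module.Free R (CliffordAlgebra Q)ᵐᵒᵖ := Module.Free.of_equiv (MulOpposite.opLinearEquiv R)
    haveI : Module.Finite R (CliffordAlgebra Q)ᵐᵒᵖ := Module.Finite.equiv (MulOpposite.opLinearEquiv R)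
    have e : Module.End R (CliffordAlgebra Q) ≃ₗ[R]
        TensorProduct R (CliffordAlgebra Q) (CliffordAlgebra Q)ᵐᵒᵖ :=
      LinearEquiv.ofFinrankEq _ _ (by
        rw [Module.finrank_linearMap, Module.finrank_tensorProduct,
          ← (MulOpposite.opLinearEquiv R : CliffordAlgebra Q ≃ₗ[R] (CliffordAlgebra Q)ᵐᵒᵖ).finrank_eq])
    have := OrzechProperty.injective_of_surjective_endomorphism (e.toLinearMap.comp Φ.toLinearMap)
      (e.surjective.comp hsurj)
    exact Function.Injective.of_comp this
  let ψ : Module.End R (CliffordAlgebra Q) →ₐ[R] Module.End R (CliffordAlgebra Q) :=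
    (Φ.comp (Algebra.TensorProduct.map (θ) (AlgHom.id R _))).comp (AlgEquiv.ofBijective Φ hΦ).symm.toAlgHom
  have hψ : ∀ a c : CliffordAlgebra Q, ψ (LinearMap.mulLeftRight R (a, c)) = LinearMap.mulLeftRight R (θ a, c) := by
    intro a c
    have he : ∀ a c : CliffordAlgebra Q, Φ (TensorProduct.tmul R a (MulOpposite.op c)) = LinearMap.mulLeftRight R (a, c) :=
      fun a c => LinearMap.ext fun x => by
        simp [Φ, AlgHom.mulLeftRight_apply, LinearMap.mulLeftRight_apply]
    have : (AlgEquiv.ofBijective Φ hΦ).symm (LinearMap.mulLeftRight R (a, c)) = TensorProduct.tmul R a (MulOpposite.op c) := by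
      rw [AlgEquiv.symm_apply_eq, AlgEquiv.ofBijective_apply, he]
    simp [ψ, this, he]
  let c := Module.Free.chooseBasis R (CliffordAlgebra Q)
  let ι' := Module.Free.ChooseBasisIndex R (CliffordAlgebra Q)
  haveI : Nontrivial (CliffordAlgebra Q) := (algebraMap_injective (Q := Q) b).nontrivial
  obtain ⟨i0⟩ : Nonempty ι' := c.index_nonempty
  let m := IsLocalRing.maximalIdeal R
  let rk : CliffordAlgebra Q →ₗ[R] Module.End R (CliffordAlgebra Q) :=
    LinearMap.smulRightₗ (c.coord i0)
  have hrk : ∀ x y, rk x y = c.coord i0 y • x := fun x y => rfl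
  -- some column of `ψ` of the corner projection is residually non-zero
  obtain ⟨u0, j0, hu0⟩ : ∃ u0 j0, c.coord j0 (ψ (rk (c i0)) u0) ∉ m := by
    by_contra hall
    push Not at hall
    have hA : ∀ (A : Module.End R (CliffordAlgebra Q)) (x : CliffordAlgebra Q),
        (∀ j, c.coord j x ∈ m) → ∀ j, c.coord j (A x) ∈ m := by
      intro A x hx j
      rw [← c.sum_repr x, map_sum, map_sum]
      refine Ideal.sum_mem _ fun k _ => ?_
      rw [map_smul, map_smul, smul_eq_mul]
      exact Ideal.mul_mem_right _ _ (hx k)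
    have h1 : (1 : Module.End R (CliffordAlgebra Q)) =
        ∑ k, (c.coord i0).smulRight (c k) * rk (c i0) * (c.coord k).smulRight (c i0) := by
      refine LinearMap.ext fun x => ?_
      simp [LinearMap.sum_apply, hrk, c.sum_repr]
    have h2 := congrArg (fun f => c.coord i0 (ψ f (c i0))) h1
    simp only [map_one, Module.End.one_apply, map_sum, map_mul, LinearMap.sum_apply,
      Module.End.mul_apply] at h2
    rw [Module.Basis.coord_apply, Module.Basis.repr_self, Finsupp.single_eq_same] at h2
    refine (IsLocalRing.maximalIdeal.isMaximal R).ne_top (Ideal.eq_top_of_isUnit_mem _ ?_ isUnit_one)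
    rw [h2]
    exact Ideal.sum_mem _ fun k _ => hA _ _ (fun j => hall _ j) _
  let S : Module.End R (CliffordAlgebra Q) := (LinearMap.applyₗ u0).comp (ψ.toLinearMap.comp rk)
  have hS : ∀ (A : Module.End R (CliffordAlgebra Q)) x, S (A x) = ψ A (S x) := by
    intro A x
    have : rk (A x) = A * rk x := LinearMap.ext fun y => by simp [hrk]
    simp [S, this]
  have hSb : Function.Bijective S := by
    have hdet : IsUnit (LinearMap.toMatrix c c S).det := by
      by_contra hnu
      let k := IsLocalRing.ResidueField R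
      let res := IsLocalRing.residue R
      have h0 : ((LinearMap.toMatrix c c S).map res).det = 0 := by
        rw [← RingHom.mapMatrix_apply, ← RingHom.map_det]
        exact (IsLocalRing.residue_eq_zero_iff _).mpr hnu
      obtain ⟨y, hy0, hy⟩ := Matrix.exists_mulVec_eq_zero_iff.mpr h0
      obtain ⟨j, hj⟩ := Function.ne_iff.mp hy0
      choose x hx using fun i => Ideal.Quotient.mk_surjective (I := m) (y i)
      let X := c.equivFun.symm x
      have hSX : ∀ i, c.coord i (S X) ∈ m := by
        intro i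
        rw [← IsLocalRing.residue_eq_zero_iff]
        have h3 := congrFun hy i
        rw [show y = fun a => res (x a) from funext fun a => (hx a).symm] at h3
        rw [Pi.zero_apply, Matrix.mulVec, dotProduct] at h3
        simp only [Matrix.map_apply, ← map_mul] at h3
        rw [← map_sum] at h3
        convert h3 using 2
        rw [show X = ∑ a, x a • c a from c.equivFun_symm_apply x, map_sum, map_sum]
        simp [LinearMap.toMatrix_apply, mul_comm]
      -- move the unit coordinate of `X` to `c i0`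
      let A : Module.End R (CliffordAlgebra Q) := (c.coord j).smulRight (c i0)
      have hAX : A X = x j • c i0 := by
        show c.coord j X • c i0 = _
        rw [Module.Basis.coord_apply, ← c.equivFun_apply, LinearEquiv.apply_symm_apply]
      have hxj : IsUnit (x j) := by
        by_contra h
        exact hj (by rw [← hx j]; exact (Ideal.Quotient.eq_zero_iff_mem).mpr h)
      have h4 : c.coord j0 (S (A X)) ∈ m := by
        rw [hS, ← c.sum_repr (S X), map_sum, map_sum]
        refine Ideal.sum_mem _ fun i _ => ?_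
        rw [map_smul, map_smul, smul_eq_mul]
        exact Ideal.mul_mem_right _ _ (hSX i)
      rw [hAX, map_smul, map_smul, smul_eq_mul] at h4
      exact hu0 ((Ideal.unit_mul_mem_iff_mem m hxj).mp h4)
    have hS' : IsUnit S := by
      have := (LinearMap.toMatrixAlgEquiv c).symm.toAlgHom.isUnit_map ((Matrix.isUnit_iff_isUnit_det _).mpr hdet)
      simpa [LinearMap.toMatrixAlgEquiv] using this
    exact (Module.End.isUnit_iff _).mp hS'
  have hl : ∀ a, S a = θ a * S 1 := fun a => by
    have := hS (LinearMap.mulLeftRight R (a, 1)) 1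
    rwa [hψ, LinearMap.mulLeftRight_apply, LinearMap.mulLeftRight_apply, mul_one, mul_one, mul_one] at this
  have hr : ∀ a, S a = S 1 * a := fun a => by
    have := hS (LinearMap.mulLeftRight R (1, a)) 1
    rwa [hψ, LinearMap.mulLeftRight_apply, LinearMap.mulLeftRight_apply, map_one, one_mul, one_mul,
      one_mul] at this
  obtain ⟨r1, hr1⟩ := hSb.2 1
  refine ⟨⟨S 1, r1, by rw [← hr, hr1], ?_⟩, fun v => ?_⟩
  · refine hSb.1 ?_
    rw [hr (r1 * S 1), ← mul_assoc, ← hr, hr1, one_mul]
  · show S 1 * v = θ v * S 1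
    rw [← hr, hl]

/-- An isometry is realised by a unit, over a local ring. -/
theorem exists_unit [IsLocalRing R] (g : M ≃ₗ[R] M) (hg : g ∈ QuadGrp.O Q) :
    ∃ u : (CliffordAlgebra Q)ˣ, ∀ v, (u : CliffordAlgebra Q) * ι Q v = ι Q (g v) * u := by
  obtain ⟨u, hu⟩ := hη.exists_unit_algHom b hQ (cmap g hg)
  exact ⟨u, fun v => by rw [hu, cmap_ι]⟩

end IsEta

theorem conj_cmap {g : M ≃ₗ[R] M} (hg : g ∈ QuadGrp.O Q) {u : CliffordAlgebra Q}
    (hu : ∀ v, u * ι Q v = ι Q (g v) * u) (x : CliffordAlgebra Q) : u * x = cmap g hg x * u := by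
  induction x using CliffordAlgebra.left_induction with
  | algebraMap r => rw [AlgHom.commutes, Algebra.commutes]
  | add x y hx hy => rw [map_add, mul_add, add_mul, hx, hy]
  | ι_mul x v ih => rw [map_mul, cmap_ι, ← mul_assoc, hu, mul_assoc, ih, mul_assoc]

theorem exists_decomp (u : CliffordAlgebra Q) :
    ∃ u0 ∈ evenOdd Q 0, ∃ u1 ∈ evenOdd Q 1, u0 + u1 = u := by
  have := (evenOdd_isCompl Q).sup_eq_top ▸ (Submodule.mem_top : u ∈ (⊤ : Submodule R (CliffordAlgebra Q)))
  exact Submodule.mem_sup.mp this

theorem decomp_unique {a a' c c' : CliffordAlgebra Q} (ha : a ∈ evenOdd Q 0) (ha' : a' ∈ evenOdd Q 0)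
    (hc : c ∈ evenOdd Q 1) (hc' : c' ∈ evenOdd Q 1) (h : a + c = a' + c') : a = a' ∧ c = c' := by
  have hd : a - a' = c' - c := by rw [sub_eq_sub_iff_add_eq_add, h, add_comm]
  have h0 : a - a' = 0 := (Submodule.disjoint_def.mp (evenOdd_isCompl Q).disjoint) _
    (Submodule.sub_mem _ ha ha') (hd ▸ Submodule.sub_mem _ hc' hc)
  exact ⟨sub_eq_zero.mp h0, (sub_eq_zero.mp (by rw [← hd]; exact h0)).symm⟩

theorem IsEta.mem_even_of_commute {η : CliffordAlgebra Q} (hη : IsEta η) {u : CliffordAlgebra Q}
    (h : u * η = η * u) : u ∈ evenOdd Q 0 := by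
  obtain ⟨u0, h0, u1, h1, rfl⟩ := exists_decomp u
  rw [add_mul, mul_add, hη.comm h0, hη.anticomm h1, add_right_inj] at h
  have : u1 = 0 := hη.unit.mul_right_eq_zero.mp
    (show (1 - 2 * η) * u1 = 0 from
      calc (1 - 2 * η) * u1 = (1 - η) * u1 - η * u1 := by noncomm_ring
        _ = 0 := sub_eq_zero.mpr h)
  rwa [this, add_zero]

theorem IsEta.mem_odd_of_skew {η : CliffordAlgebra Q} (hη : IsEta η) {u : CliffordAlgebra Q}
    (h : u * η = (1 - η) * u) : u ∈ evenOdd Q 1 := by
  obtain ⟨u0, h0, u1, h1, rfl⟩ := exists_decomp u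
  rw [add_mul, mul_add, hη.comm h0, hη.anticomm h1, add_left_inj] at h
  have : u0 = 0 := hη.unit.mul_right_eq_zero.mp
    (show (1 - 2 * η) * u0 = 0 from
      calc (1 - 2 * η) * u0 = (1 - η) * u0 - η * u0 := by noncomm_ring
        _ = 0 := sub_eq_zero.mpr h.symm)
  rwa [this, zero_add]

section Top

variable {n : ℕ} (b : Module.Basis (Fin n) R M)

/-- The composite of a list of contractions. -/
noncomputable def contrProd (l : List (Module.Dual R M)) : Module.End R (CliffordAlgebra Q) :=
  (l.map fun d => (D d : Module.End R (CliffordAlgebra Q))).prod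

theorem contract_mul_prod_eq_zero {d : Module.Dual R M} {l : List (Module.Dual R M)} (h : d ∈ l) :
    (D d : Module.End R (CliffordAlgebra Q)) * contrProd l = 0 ∧
      contrProd (Q := Q) l * (D d : Module.End R (CliffordAlgebra Q)) = 0 := by
  have hsq : (D d : Module.End R (CliffordAlgebra Q)) * D d = 0 :=
    LinearMap.ext fun x => contractLeft_contractLeft d x
  have hc : ∀ a : Module.Dual R M, (D d : Module.End R (CliffordAlgebra Q)) * D a = (-1 : R) • ((D a : Module.End R (CliffordAlgebra Q)) * D d) :=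
    fun a => LinearMap.ext fun x => (contractLeft_comm d a x).trans (neg_one_smul R _).symm
  have hmove : ∀ l : List (Module.Dual R M), ∃ s : R,
      (D d : Module.End R (CliffordAlgebra Q)) * contrProd l = s • (contrProd l * D d) := by
    intro l
    induction l with
    | nil => exact ⟨1, by simp [contrProd]⟩
    | cons a l ih =>
      obtain ⟨s, hs⟩ := ih
      refine ⟨-s, ?_⟩
      simp only [contrProd, List.map_cons, List.prod_cons] at hs ⊢
      rw [← mul_assoc, hc, smul_mul_assoc, mul_assoc, hs, mul_smul_comm, mul_assoc, smul_smul, neg_one_mul]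
  induction l with
  | nil => simp at h
  | cons a l ih =>
    simp only [contrProd, List.map_cons, List.prod_cons]
    rcases List.mem_cons.mp h with rfl | h
    · refine ⟨by rw [← mul_assoc, hsq, zero_mul], ?_⟩
      obtain ⟨s, hs⟩ := hmove l
      simp only [contrProd] at hs
      rw [hs, smul_mul_assoc, mul_assoc, hsq, mul_zero, smul_zero]
    · obtain ⟨h1, h2⟩ := ih h
      simp only [contrProd] at h1 h2
      refine ⟨by rw [← mul_assoc, hc, smul_mul_assoc, mul_assoc, h1, mul_zero, smul_zero], ?_⟩
      rw [mul_assoc, h2, mul_zero]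

/-- The top coefficient. -/
noncomputable def topT : Module.End R (CliffordAlgebra Q) := contrProd (List.ofFn b.coord)

theorem exists_topT_scalar (x : CliffordAlgebra Q) : ∃ r, topT b x = algebraMap R _ r := by
  refine eq_algebraMap_of_contract b _ fun i => ?_
  exact LinearMap.congr_fun (contract_mul_prod_eq_zero (l := List.ofFn b.coord) (d := b.coord i)
    (List.mem_ofFn.mpr ⟨i, rfl⟩)).1 x

theorem topT_contract (d : Module.Dual R M) (x : CliffordAlgebra Q) : topT b (D d x) = 0 := by
  rw [contract_sum b d x, map_sum]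
  refine Finset.sum_eq_zero fun i _ => ?_
  rw [map_smul]
  have h : topT b (D (b.coord i) x) = 0 :=
    LinearMap.congr_fun (contract_mul_prod_eq_zero (l := List.ofFn b.coord) (d := b.coord i)
      (List.mem_ofFn.mpr ⟨i, rfl⟩)).2 x
  rw [h, smul_zero]

theorem topT_ι_mul (v : M) (x : CliffordAlgebra Q) :
    topT b (ι Q v * x) = topT b (involute x * ι Q v) := by
  rw [← sub_eq_zero, ← map_sub, ι_mul_sub]
  exact topT_contract b _ x

theorem topT_comm_even {a : CliffordAlgebra Q} (ha : a ∈ evenOdd Q 0) (x : CliffordAlgebra Q) :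
    topT b (a * x) = topT b (x * a) := by
  induction a, ha using even_induction generalizing x with
  | algebraMap r => rw [Algebra.commutes]
  | add a a' _ _ h h' => rw [add_mul, mul_add, map_add, map_add, h, h']
  | ι_mul_ι_mul v w a ha h =>
    have e1 : involute (ι Q w * (a * x)) * ι Q v = -(ι Q w * (a * involute x * ι Q v)) := by
      rw [map_mul, map_mul, involute_ι, involute_eq_of_mem_even ha]
      simp [mul_assoc]
    have e2 : involute (a * involute x * ι Q v) * ι Q w = -(a * (x * (ι Q v * ι Q w))) := by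
      rw [map_mul, map_mul, involute_ι, involute_involute, involute_eq_of_mem_even ha]
      simp [mul_assoc]
    calc topT b (ι Q v * ι Q w * a * x) = topT b (ι Q v * (ι Q w * (a * x))) := by simp only [mul_assoc]
      _ = -topT b (ι Q w * (a * involute x * ι Q v)) := by rw [topT_ι_mul, e1, map_neg]
      _ = topT b (a * (x * (ι Q v * ι Q w))) := by rw [topT_ι_mul, e2, map_neg, neg_neg]
      _ = _ := by rw [h, mul_assoc x]

theorem topT_comm_odd {a : CliffordAlgebra Q} (ha : a ∈ evenOdd Q 1) {x : CliffordAlgebra Q}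
    (hx : x ∈ evenOdd Q 1) : topT b (a * x) = -topT b (x * a) := by
  induction a, ha using odd_induction generalizing x with
  | ι v => rw [topT_ι_mul, involute_eq_of_mem_odd hx, neg_mul, map_neg]
  | add a a' _ _ h h' => rw [add_mul, mul_add, map_add, map_add, h hx, h' hx, neg_add]
  | ι_mul_ι_mul v w a ha h =>
    have h2 : x * (ι Q v * ι Q w) ∈ evenOdd Q 1 := by
      simpa using SetLike.mul_mem_graded hx (ι_mul_ι_mem_evenOdd_zero Q v w)
    rw [mul_assoc, topT_comm_even b (ι_mul_ι_mem_evenOdd_zero Q v w), mul_assoc, h h2]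
    simp only [mul_assoc]

theorem topT_cmap (g : M ≃ₗ[R] M) (hg : g ∈ QuadGrp.O Q) (x : CliffordAlgebra Q) :
    topT b (cmap g hg x) = LinearMap.det g.toLinearMap • topT b x := by
  haveI := Module.Free.of_basis b
  haveI := Module.Finite.of_basis b
  have hd : ∀ (d : Module.Dual R M) (x : CliffordAlgebra Q),
      D d (cmap g hg x) = cmap g hg (D (d ∘ₗ g.toLinearMap) x) := by
    intro d x
    induction x using CliffordAlgebra.left_induction with
    | algebraMap r => rw [AlgHom.commutes, contractLeft_algebraMap, contractLeft_algebraMap, map_zero]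
    | add x y hx hy => rw [map_add, map_add, map_add, hx, hy, map_add]
    | ι_mul y a ih =>
      rw [map_mul, cmap_ι, contractLeft_ι_mul, contractLeft_ι_mul, ih, map_sub, map_smul, map_mul, cmap_ι]
      rfl
  have hl : ∀ (l : List (Module.Dual R M)) (x : CliffordAlgebra Q),
      contrProd l (cmap g hg x) = cmap g hg (contrProd (l.map fun d => d ∘ₗ g.toLinearMap) x) := by
    intro l
    induction l with
    | nil => intro x; rfl
    | cons a l ih =>
      intro x
      simp only [contrProd, List.map_cons, List.prod_cons, Module.End.mul_apply] at ih ⊢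
      rw [ih, hd]
  let L : ExteriorAlgebra R (Module.Dual R M) →ₐ[R] Module.End R (CliffordAlgebra Q) :=
    ExteriorAlgebra.lift R ⟨(D : Module.Dual R M →ₗ[R] Module.End R (CliffordAlgebra Q)),
      fun d => LinearMap.ext fun x => contractLeft_contractLeft d x⟩
  let f := L.toLinearMap.compAlternatingMap (ExteriorAlgebra.ιMulti R n)
  have hf : ∀ v : Fin n → Module.Dual R M, f v = contrProd (List.ofFn v) := by
    intro v
    show L (ExteriorAlgebra.ιMulti R n v) = _
    rw [ExteriorAlgebra.ιMulti_apply, map_list_prod, contrProd]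
    simp only [List.map_ofFn]
    congr 2
    funext i
    simp [L]
  have hval : f (fun i => b.coord i ∘ₗ g.toLinearMap) =
      LinearMap.det g.toLinearMap • f (fun i => b.coord i) := by
    have hfe : f = (b.dualBasis.det).smulRight (f b.dualBasis) := by
      refine Module.Basis.ext_alternating b.dualBasis fun i hi => ?_
      let σ : Equiv.Perm (Fin n) := Equiv.ofBijective i (Finite.injective_iff_bijective.1 hi)
      change f (b.dualBasis ∘ σ) = b.dualBasis.det (b.dualBasis ∘ σ) • f b.dualBasis
      rw [AlternatingMap.map_perm, AlternatingMap.map_perm, Module.Basis.det_self, smul_assoc, one_smul]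
    have h := congrArg (fun F => F (g.toLinearMap.dualMap ∘ b.dualBasis)) hfe
    simp only [AlternatingMap.smulRight_apply, Module.Basis.det_comp, Module.Basis.det_self, mul_one,
      LinearMap.det_dualMap] at h
    have e1 : (g.toLinearMap.dualMap ∘ b.dualBasis) = fun i => b.coord i ∘ₗ g.toLinearMap := by
      funext i; simp [LinearMap.dualMap_apply']
    have e2 : (b.dualBasis : Fin n → Module.Dual R M) = fun i => b.coord i := b.coe_dualBasis
    rw [e1, e2] at h
    exact h
  obtain ⟨r, hr⟩ := exists_topT_scalar b x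
  rw [topT, hl, List.map_ofFn]
  rw [hf, hf] at hval
  rw [show ((fun d => d ∘ₗ g.toLinearMap) ∘ fun i => b.coord i) = fun i => b.coord i ∘ₗ g.toLinearMap from rfl,
    hval, LinearMap.smul_apply, map_smul]
  rw [topT] at hr
  rw [hr, AlgHom.commutes]

theorem exists_topT_eq_one : ∃ x ∈ evenOdd Q (n : ZMod 2), topT b x = 1 := by
  suffices h : ∀ l : List (Fin n), l.Nodup →
      ∃ x ∈ evenOdd Q (l.length : ZMod 2), contrProd (l.map b.coord) x = 1 ∧
        ∀ j, j ∉ l → D (b.coord j) x = 0 by
    obtain ⟨x, hx, h1, _⟩ := h (List.finRange n) (List.nodup_finRange n)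
    rw [List.length_finRange] at hx
    exact ⟨x, hx, by rw [topT, List.ofFn_eq_map]; exact h1⟩
  suffices h : ∀ l : List (Fin n), l.Nodup →
      ∃ x ∈ evenOdd Q (l.length : ZMod 2), contrProd (l.reverse.map b.coord) x = 1 ∧
        ∀ j, j ∉ l → D (b.coord j) x = 0 by
    intro l hl
    obtain ⟨x, h0, h1, h2⟩ := h l.reverse (List.nodup_reverse.mpr hl)
    rw [List.length_reverse] at h0
    rw [List.reverse_reverse] at h1
    exact ⟨x, h0, h1, fun j hj => h2 j (by simpa using hj)⟩
  intro l hl
  induction l with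
  | nil => exact ⟨1, by simpa using SetLike.one_mem_graded (evenOdd Q), by simp [contrProd], fun j _ => contractLeft_one Q (b.coord j)⟩
  | cons a l ih =>
    rw [List.nodup_cons] at hl
    obtain ⟨x, h0, h1, h2⟩ := ih hl.2
    refine ⟨ι Q (b a) * x, ?_, ?_, ?_⟩
    · rw [List.length_cons, Nat.cast_add, Nat.cast_one, add_comm]
      exact SetLike.mul_mem_graded (ι_mem_evenOdd_one Q _) h0
    · simp only [contrProd, List.reverse_cons, List.map_append, List.map_cons, List.map_nil,
        List.prod_append, List.prod_cons, List.prod_nil, mul_one, Module.End.mul_apply] at h1 ⊢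
      rw [contractLeft_ι_mul, h2 a hl.1, mul_zero, sub_zero, Module.Basis.coord_apply,
        Module.Basis.repr_self, Finsupp.single_eq_same, one_smul, h1]
    · intro j hj
      rw [List.mem_cons, not_or] at hj
      rw [contractLeft_ι_mul, h2 j hj.2, mul_zero, sub_zero, Module.Basis.coord_apply,
        Module.Basis.repr_self, Finsupp.single_eq_of_ne hj.1, zero_smul]

include b in
theorem det_of_even_unit (g : M ≃ₗ[R] M) (hg : g ∈ QuadGrp.O Q) (u : (CliffordAlgebra Q)ˣ)
    (hu : ∀ v, (u : CliffordAlgebra Q) * ι Q v = ι Q (g v) * u)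
    (hu0 : (u : CliffordAlgebra Q) ∈ evenOdd Q 0) : LinearMap.det g.toLinearMap = 1 := by
  obtain ⟨x, -, hx⟩ := exists_topT_eq_one b (Q := Q)
  have h : topT b (cmap g hg x) = topT b x := by
    calc topT b (cmap g hg x) = topT b ((u : CliffordAlgebra Q) * (x * ↑u⁻¹)) := by
          rw [← mul_assoc, conj_cmap hg hu, mul_assoc, Units.mul_inv, mul_one]
      _ = topT b (x * ↑u⁻¹ * (u : CliffordAlgebra Q)) := topT_comm_even b hu0 _
      _ = topT b x := by rw [mul_assoc, Units.inv_mul, mul_one]
  rw [topT_cmap, hx] at h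
  exact algebraMap_injective (Q := Q) b (by rw [map_one, Algebra.algebraMap_eq_smul_one, h])

include b in
theorem det_of_odd_unit (hev : Even n) (g : M ≃ₗ[R] M) (hg : g ∈ QuadGrp.O Q) (u : (CliffordAlgebra Q)ˣ)
    (hu : ∀ v, (u : CliffordAlgebra Q) * ι Q v = ι Q (g v) * u)
    (hu1 : (u : CliffordAlgebra Q) ∈ evenOdd Q 1) : LinearMap.det g.toLinearMap = -1 := by
  obtain ⟨x, hxm, hx⟩ := exists_topT_eq_one b (Q := Q)
  rw [(ZMod.natCast_eq_zero_iff_even).mpr hev] at hxm
  have hinv : (↑u⁻¹ : CliffordAlgebra Q) ∈ evenOdd Q 1 := by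
    have hi : involute (↑u⁻¹ : CliffordAlgebra Q) = -↑u⁻¹ := by
      have h := congrArg (involute (Q := Q)) u.mul_inv
      rw [map_mul, map_one, involute_eq_of_mem_odd hu1, neg_mul] at h
      have h' := congrArg ((↑u⁻¹ : CliffordAlgebra Q) * ·) h
      simp only [mul_neg, mul_one, Units.inv_mul_cancel_left] at h'
      exact neg_eq_iff_eq_neg.mp h'
    obtain ⟨w0, h0, w1, h1, he⟩ := exists_decomp (↑u⁻¹ : CliffordAlgebra Q)
    have hone : (u : CliffordAlgebra Q) * w1 + u * w0 = 1 + 0 := by
      rw [add_zero, ← mul_add, add_comm w1, he, Units.mul_inv]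
    have h10 : (u : CliffordAlgebra Q) * w1 ∈ evenOdd Q 0 := by
      simpa [show (1 + 1 : ZMod 2) = 0 by decide] using SetLike.mul_mem_graded hu1 h1
    have h11 : (u : CliffordAlgebra Q) * w0 ∈ evenOdd Q 1 := by simpa using SetLike.mul_mem_graded hu1 h0
    have := (decomp_unique h10 (SetLike.one_mem_graded _) h11 (Submodule.zero_mem _) hone).2
    rw [u.isUnit.mul_right_eq_zero.mp this, zero_add] at he
    rwa [← he]
  have hx1 : x * ↑u⁻¹ ∈ evenOdd Q 1 := by simpa using SetLike.mul_mem_graded hxm hinv
  have h : topT b (cmap g hg x) = -topT b x := by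
    calc topT b (cmap g hg x) = topT b ((u : CliffordAlgebra Q) * (x * ↑u⁻¹)) := by
          rw [← mul_assoc, conj_cmap hg hu, mul_assoc, Units.mul_inv, mul_one]
      _ = -topT b (x * ↑u⁻¹ * (u : CliffordAlgebra Q)) := topT_comm_odd b hu1 hx1
      _ = -topT b x := by rw [mul_assoc, Units.inv_mul, mul_one]
  rw [topT_cmap, hx] at h
  exact algebraMap_injective (Q := Q) b (by rw [map_neg, map_one, Algebra.algebraMap_eq_smul_one, h])

end Top

end QuadCliff
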