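import Groth.Agent.QuadCliff.Global
import Groth.Agent.QuadCliff.GPin
import Groth.Agent.QuadGrpL.Field
import Mathlib.LinearAlgebra.Basis.Fin
import Mathlib.RingTheory.Finiteness.Projective
import Mathlib.Tactic

/-! Clifford algebras of semiregular forms of odd rank over a local ring. -/

namespace QuadCliff

open CliffordAlgebra Matrix

universe u v

variable {R : Type u} [CommRing R] {M : Type v} [AddCommGroup M] [Module R M] {Q : QuadraticForm R M}

/-- The half-discriminant changes by a square of the determinant under a change of basis. -/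
theorem halfDisc_basis {n : ℕ} (hn : Odd n) (b b' : Module.Basis (Fin n) R M) (Q : QuadraticForm R M) :
    QuadGrp.halfDisc b' (LinearEquiv.refl R R) Q =
      LinearMap.det (b.equiv b' (Equiv.refl _)).toLinearMap ^ 2 * QuadGrp.halfDisc b (LinearEquiv.refl R R) Q := by
  rw [← QuadGrpLib.halfDisc_comp hn, QuadGrp.halfDisc, QuadGrp.halfDisc]
  congr 1
  funext z
  induction z using Sym2.ind with
  | h i j =>
    have e : ∀ i, (b.equiv b' (Equiv.refl _)).toLinearMap (b i) = b' i := fun i => by simp
    by_cases h : i = j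
    · subst h; rw [QuadGrp.coeffs_mk, QuadGrp.coeffs_mk, if_pos rfl, if_pos rfl, QuadraticMap.comp_apply, e]
    · rw [QuadGrp.coeffs_mk, QuadGrp.coeffs_mk, if_neg h, if_neg h]
      simp only [QuadraticMap.polar, QuadraticMap.comp_apply, map_add, e]

/-- An orthogonal splitting `R e ⊕ ker τ` with regular complement. -/
structure OddFrame (Q : QuadraticForm R M) (k : ℕ) where
  e : M
  τ : M →ₗ[R] R
  τ_e : τ e = 1
  orth : ∀ w, τ w = 0 → QuadraticMap.polar Q e w = 0
  unit : IsUnit (Q e)
  basis : Module.Basis (Fin (2 * k)) R (LinearMap.ker τ)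
  regular : QuadGrp.IsRegular (Q.comp (LinearMap.ker τ).subtype)

theorem exists_line [IsLocalRing R] {k : ℕ} (b : Module.Basis (Fin (2 * k + 1)) R M)
    (hQ : QuadGrp.IsSemiregular b (LinearEquiv.refl R R) Q) :
    ∃ (e : M) (τ : M →ₗ[R] R), τ e = 1 ∧ ∀ w, τ w = 0 → QuadraticMap.polar Q e w = 0 := by
  classical
  have hn : Odd (2 * k + 1) := odd_two_mul_add_one k
  obtain ⟨B, hB⟩ := QuadGrpLib.exists_lift b Q
  set U : Matrix (Fin (2 * k + 1)) (Fin (2 * k + 1)) R := Matrix.of fun i j => B (b i) (b j) with hU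
  have hsemi : IsUnit (QuadGrpLib.hU U) := by rw [← QuadGrpLib.halfDisc_eq_hU b Q B hB]; exact hQ
  have hPU : QuadGrpLib.polarMat b Q = U + Uᵀ := by
    ext i j
    subst hB
    simp [QuadGrpLib.polarMat, U, LinearMap.BilinMap.polar_toQuadraticMap]
  set P := QuadGrpLib.polarMat b Q with hP
  have hsymm : Pᵀ = P := by rw [hPU, Matrix.transpose_add, Matrix.transpose_transpose]; exact add_comm _ _
  by_cases h2 : IsUnit (2 : R)
  · have hdet : IsUnit P.det := by rw [hPU, ← QuadGrpLib.two_mul_hU hn]; exact h2.mul hsemi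
    haveI := Module.Free.of_basis b
    have hreg : QuadGrp.IsRegular Q := isRegular_of_isUnit_det b hdet
    obtain ⟨r, w, hrw⟩ := exists_sum_eq_one b hreg (by omega)
    obtain ⟨v, hv⟩ : ∃ v, IsUnit (Q v) := by
      by_contra hall
      push Not at hall
      refine (IsLocalRing.maximalIdeal.isMaximal R).ne_top (Ideal.eq_top_of_isUnit_mem _ ?_ isUnit_one)
      rw [← hrw]
      exact Ideal.sum_mem _ fun i _ => Ideal.mul_mem_left _ _ (hall _)
    obtain ⟨c, hc⟩ := (h2.mul hv).exists_left_inv
    refine ⟨v, c • QuadraticMap.polarBilin Q v, ?_, fun w hw => ?_⟩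
    · show c * QuadraticMap.polar Q v v = 1
      rw [QuadraticMap.polar_self, two_nsmul, ← two_mul]; exact hc
    · have hw' : c * QuadraticMap.polar Q v w = 0 := hw
      linear_combination (2 * Q v) * hw' - QuadraticMap.polar Q v w * hc
  · obtain ⟨i, hi⟩ : ∃ i, IsUnit (P.adjugate i i) := by
      let m := IsLocalRing.maximalIdeal R
      let res := IsLocalRing.residue R
      have hres : ∀ x, res x = 0 ↔ x ∈ m := fun x => IsLocalRing.residue_eq_zero_iff x
      have htop := QuadGrpLib.span_adjugate_eq_top U (by omega) (fun he => absurd he (Nat.not_even_iff_odd.mpr hn))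
        (fun _ => hsemi)
      obtain ⟨j, r, hjr⟩ : ∃ j r, ¬P.adjugate j r ∈ m := by
        by_contra hall
        push Not at hall
        refine (IsLocalRing.maximalIdeal.isMaximal R).ne_top (top_le_iff.mp ?_)
        rw [← htop, Ideal.span_le]
        rintro _ ⟨⟨a, c⟩, rfl⟩
        rw [← hPU]; exact hall a c
      refine ⟨r, not_not.mp fun hr => ?_⟩
      let Pk := P.map res
      have hadj : ∀ a c, Pk.adjugate a c = res (P.adjugate a c) := fun a c => by
        show (res.mapMatrix P).adjugate a c = _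
        rw [← RingHom.map_adjugate]; rfl
      have hd : Pk.det = 0 := by
        show (res.mapMatrix P).det = 0
        rw [← RingHom.map_det, hres, hPU, ← QuadGrpLib.two_mul_hU hn]
        exact Ideal.mul_mem_right _ _ h2
      have hy : (Pk.adjugate j) ᵥ* Pk = 0 := by
        funext c
        have := congrFun (congrFun (Matrix.adjugate_mul Pk) j) c
        rw [hd, zero_smul] at this
        exact this
      have key := QuadGrpLib.smul_adjugate_eq hy r r j
      rw [show Pk.adjugate r j = Pk.adjugate j r by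
        rw [← Matrix.transpose_apply Pk.adjugate j r, Matrix.adjugate_transpose, ← Matrix.transpose_map, hsymm]] at key
      rw [hadj j r, hadj r r, (hres _).mpr hr, mul_zero] at key
      exact hjr ((hres _).mp (mul_self_eq_zero.mp key))
    obtain ⟨c, hc⟩ := hi.exists_left_inv
    refine ⟨∑ a, (c * P.adjugate a i) • b a, b.coord i, ?_, fun w hw => ?_⟩
    · simp [Module.Basis.coord_apply, Finsupp.single_apply, hc]
    · rw [Module.Basis.coord_apply] at hw
      have h1 : ∀ x, QuadraticMap.polar Q (∑ a, (c * P.adjugate a i) • b a) (b x) =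
          c * (if x = i then P.det else 0) := by
        intro x
        have h := congrFun (congrFun (Matrix.mul_adjugate P) x) i
        rw [Matrix.smul_apply, Matrix.one_apply, smul_eq_mul, mul_ite, mul_one, mul_zero] at h
        rw [← h, Matrix.mul_apply, Finset.mul_sum, ← QuadraticMap.polarBilin_apply_apply, map_sum,
          LinearMap.sum_apply]
        refine Finset.sum_congr rfl fun a _ => ?_
        rw [map_smul, LinearMap.smul_apply, QuadraticMap.polarBilin_apply_apply, smul_eq_mul,
          QuadraticMap.polar_comm]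
        show _ = c * (QuadraticMap.polar Q (b x) (b a) * P.adjugate a i)
        ring
      rw [← b.sum_repr w, ← QuadraticMap.polarBilin_apply_apply, map_sum]
      refine Finset.sum_eq_zero fun x _ => ?_
      rw [map_smul, QuadraticMap.polarBilin_apply_apply, h1, smul_eq_mul]
      by_cases hx : x = i
      · subst hx; rw [hw, zero_mul]
      · rw [if_neg hx, mul_zero, mul_zero]

theorem exists_oddFrame [IsLocalRing R] {k : ℕ} (b : Module.Basis (Fin (2 * k + 1)) R M)
    (hQ : QuadGrp.IsSemiregular b (LinearEquiv.refl R R) Q) : Nonempty (OddFrame Q k) := by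
  classical
  obtain ⟨e, τ, hτ, horth⟩ := exists_line b hQ
  haveI := Module.Free.of_basis b
  haveI := Module.Finite.of_basis b
  let pr : M →ₗ[R] M := LinearMap.id - τ.smulRight e
  have hpr : ∀ x, pr x ∈ LinearMap.ker τ := fun x => by simp [pr, hτ]
  have hfix : ∀ w : LinearMap.ker τ, pr.codRestrict _ hpr (w : M) = w := fun w => Subtype.ext (by
    simp [pr, LinearMap.mem_ker.mp w.2])
  haveI : Module.Finite R (LinearMap.ker τ) :=
    Module.Finite.of_surjective (pr.codRestrict _ hpr) fun w => ⟨w, hfix w⟩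
  haveI : Module.Projective R (LinearMap.ker τ) :=
    Module.Projective.of_split (LinearMap.ker τ).subtype (pr.codRestrict _ hpr) (LinearMap.ext hfix)
  haveI : Module.Free R (LinearMap.ker τ) := Module.free_of_flat_of_isLocalRing
  let E : M ≃ₗ[R] R × LinearMap.ker τ :=
    LinearEquiv.ofLinearMap (τ.prod (pr.codRestrict _ hpr))
      ((LinearMap.toSpanSingleton R M e).coprod (LinearMap.ker τ).subtype)
      (by refine LinearMap.ext fun ⟨a, w⟩ => ?_; ext <;> simp [hτ, pr, LinearMap.mem_ker.mp w.2])
      (by refine LinearMap.ext fun x => ?_; simp [pr])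
  have hrank : Module.finrank R (LinearMap.ker τ) = 2 * k := by
    have := E.finrank_eq
    rw [Module.finrank_eq_card_basis b, Fintype.card_fin, Module.finrank_prod, Module.finrank_self] at this
    omega
  let bW : Module.Basis (Fin (2 * k)) R (LinearMap.ker τ) := Module.finBasisOfFinrankEq R _ hrank
  let b' : Module.Basis (Fin (2 * k + 1)) R M := Module.Basis.mkFinCons e bW
    (fun c x hx h => by
      have := congrArg τ h
      simpa [hτ, LinearMap.mem_ker.mp hx] using this)
    (fun z => ⟨-τ z, by simp [hτ]⟩)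
  have hb0 : b' 0 = e := by simp [b']
  have hbs : ∀ i : Fin (2 * k), b' i.succ = (bW i : M) := fun i => by simp [b']
  have hu : IsUnit (QuadGrp.halfDisc b' (LinearEquiv.refl R R) Q) := by
    rw [halfDisc_basis (odd_two_mul_add_one k) b b']
    exact (((LinearEquiv.isUnit_det' (b.equiv b' (Equiv.refl _)))).pow 2).mul hQ
  obtain ⟨B, hB⟩ := QuadGrpLib.exists_lift b' Q
  have hpol : ∀ x y, QuadraticMap.polar Q x y = B x y + B y x := fun x y => by
    subst hB; rw [LinearMap.BilinMap.polar_toQuadraticMap]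
  rw [QuadGrpLib.halfDisc_eq_hU b' Q B hB,
    QuadGrpLib.hU_of_row (odd_two_mul_add_one k) _ 0 fun j hj => by
      obtain ⟨i, rfl⟩ := Fin.exists_succ_eq.mpr hj
      rw [Matrix.of_apply, Matrix.of_apply, ← hpol, hb0, hbs]
      exact horth _ (LinearMap.mem_ker.mp (bW i).2)] at hu
  obtain ⟨hQe, hadj⟩ := IsUnit.mul_iff.mp hu
  refine ⟨⟨e, τ, hτ, horth, ?_, bW, isRegular_of_isUnit_det bW ?_⟩⟩
  · rwa [Matrix.of_apply, hb0, ← LinearMap.BilinMap.toQuadraticMap_apply, hB] at hQe
  · rw [Matrix.adjugate_fin_succ_eq_det_submatrix] at hadj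
    convert (IsUnit.mul_iff.mp hadj).2 using 2
    ext i j
    simp only [QuadGrpLib.polarMat, Matrix.submatrix_apply, Fin.succAbove_zero, Matrix.add_apply,
      Matrix.transpose_apply, Matrix.of_apply, ← hpol, hbs]
    rfl

/-- The structure of the Clifford algebra of a semiregular form over a local ring. -/
structure OddData (Q : QuadraticForm R M) (k : ℕ) : Prop where
  central : ∃ z : CliffordAlgebra Q, ∃ Δ : R, z ∈ evenOdd Q 1 ∧ (∀ x, z * x = x * z) ∧ IsUnit Δ ∧
    z * z = algebraMap R _ Δ ∧ star z = ((-1 : R) ^ (k + 1)) • z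
  even_center : ∀ x ∈ evenOdd Q 0, (∀ y ∈ evenOdd Q 0, x * y = y * x) → ∃ r, x = algebraMap R _ r
  inner : ∀ θ : CliffordAlgebra Q →ₐ[R] CliffordAlgebra Q, (∀ y ∈ evenOdd Q 0, θ y ∈ evenOdd Q 0) →
    ∃ u : (CliffordAlgebra Q)ˣ, (u : CliffordAlgebra Q) ∈ evenOdd Q 0 ∧
      ∀ y ∈ evenOdd Q 0, (u : CliffordAlgebra Q) * y = θ y * u

theorem OddFrame.oddData [IsLocalRing R] {k : ℕ} (F : OddFrame Q k) : OddData Q k := by
  classical
  obtain ⟨e, τ, hτ, horth, hunit, bW, hreg⟩ := F
  set a := Q e with ha
  obtain ⟨ai, hai⟩ := hunit.exists_left_inv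
  let W := LinearMap.ker τ
  let qW : QuadraticForm R W := Q.comp W.subtype
  let inc : qW →qᵢ Q := { W.subtype with map_app' := fun w => rfl }
  obtain ⟨η, hη, hstar⟩ := exists_eta_star k qW bW hreg
  have hew : ∀ w : W, ι Q e * ι Q (w : M) = -(ι Q (w : M) * ι Q e) := fun w => by
    rw [eq_neg_iff_add_eq_zero, ι_mul_ι_add_swap, horth _ (LinearMap.mem_ker.mp w.2), map_zero]
  have hee : ι Q e * ι Q e = algebraMap R _ a := ι_sq_scalar _ _
  set ζ : CliffordAlgebra Q := CliffordAlgebra.map inc (1 - 2 * η) with hζ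
  have hzev : (1 - 2 * η : CliffordAlgebra qW) ∈ evenOdd qW 0 :=
    Submodule.sub_mem _ (SetLike.one_mem_graded _) (by rw [two_mul]; exact Submodule.add_mem _ hη.mem hη.mem)
  have heζ : ι Q e * ζ = ζ * ι Q e :=
    map_comm_of_orth inc e (fun w => horth _ (LinearMap.mem_ker.mp w.2)) hzev
  have hwζ : ∀ w : W, ι Q (w : M) * ζ = -(ζ * ι Q (w : M)) := fun w => by
    have := congrArg (CliffordAlgebra.map inc) (hη.z_rel w)
    rw [map_mul, map_neg, map_mul, map_apply_ι] at this
    exact this
  have hζev : ζ ∈ evenOdd Q 0 := by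
    have : ∀ {y : CliffordAlgebra qW}, y ∈ evenOdd qW 0 → CliffordAlgebra.map inc y ∈ evenOdd Q 0 := by
      intro y hy
      induction y, hy using even_induction with
      | algebraMap r => rw [AlgHom.commutes]; exact SetLike.algebraMap_mem_graded _ _
      | add c d _ _ hc hd => rw [map_add]; exact Submodule.add_mem _ hc hd
      | ι_mul_ι_mul c d z _ hz =>
        rw [map_mul, map_mul, map_apply_ι, map_apply_ι]
        simpa using SetLike.mul_mem_graded (ι_mul_ι_mem_evenOdd_zero Q (inc c) (inc d)) hz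
    exact this hzev
  set z : CliffordAlgebra Q := ι Q e * ζ with hz
  have hcomm : ζ * ι Q e = ι Q e * ζ := heζ.symm.trans hz
  have hdec : ∀ x : M, x = τ x • e + ((⟨x - τ x • e, by simp [W, hτ]⟩ : W) : M) := fun x => by simp
  have hzv : ∀ x, ι Q x * z = z * ι Q x := by
    intro x
    rw [hdec x, map_add, map_smul, add_mul, mul_add, smul_mul_assoc, mul_smul_comm]
    congr 1
    · rw [hz, mul_assoc, ← heζ]
    · set w : W := ⟨x - τ x • e, by simp [W, hτ]⟩
      rw [hz, ← mul_assoc, show ι Q (w : M) * ι Q e = -(ι Q e * ι Q (w : M)) by rw [hew, neg_neg], neg_mul,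
        mul_assoc, hwζ, mul_neg, neg_neg, mul_assoc]
  have hzall : ∀ x, z * x = x * z := by
    intro x
    induction x using CliffordAlgebra.left_induction with
    | algebraMap r => exact (Algebra.commutes r z).symm
    | add x y hx hy => rw [mul_add, add_mul, hx, hy]
    | ι_mul y c ih => rw [← mul_assoc, ← hzv, mul_assoc, ih, mul_assoc]
  obtain ⟨d, hd⟩ := hη.exists_sq bW hreg
  have hζζ : ζ * ζ = algebraMap R _ (1 - 4 * d) := by
    rw [hζ, ← map_mul, show (1 - 2 * η) * (1 - 2 * η) = algebraMap R (CliffordAlgebra qW) (1 - 4 * d) from ?_,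
      AlgHom.commutes]
    simp only [map_sub, map_one, map_mul, map_ofNat]
    calc (1 - 2 * η) * (1 - 2 * η) = 1 - 4 * η + 4 * (η * η) := by noncomm_ring
      _ = _ := by rw [hd]; noncomm_ring
  have hδ : IsUnit (1 - 4 * d) := by
    by_contra hnu
    have hu : IsUnit (algebraMap R (CliffordAlgebra Q) (1 - 4 * d)) := by
      rw [← hζζ]; exact (hη.unit.map _).mul (hη.unit.map _)
    obtain ⟨hfree, hfin⟩ := free_finite (Q := Q) (Module.Basis.mkFinCons e bW
      (fun c x hx h => by
        have := congrArg τ h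
        simpa [hτ, LinearMap.mem_ker.mp hx] using this)
      (fun z => ⟨-τ z, by simp [hτ]⟩))
    have hinj := algebraMap_injective (Q := Q) (Module.Basis.mkFinCons e bW
      (fun c x hx h => by
        have := congrArg τ h
        simpa [hτ, LinearMap.mem_ker.mp hx] using this)
      (fun z => ⟨-τ z, by simp [hτ]⟩))
    haveI := hinj.nontrivial
    obtain ⟨y, hy⟩ := hu.exists_right_inv
    let c := Module.Free.chooseBasis R (CliffordAlgebra Q)
    have hone : ∀ j, c.repr (1 : CliffordAlgebra Q) j ∈ IsLocalRing.maximalIdeal R := fun j => by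
      rw [← hy, ← Algebra.smul_def, map_smul, Finsupp.smul_apply, smul_eq_mul]
      exact Ideal.mul_mem_right _ _ hnu
    have h1 : ∀ j, c.repr (1 * c j) j ∈ IsLocalRing.maximalIdeal R := fun j => by
      rw [← c.sum_repr (1 : CliffordAlgebra Q), Finset.sum_mul, map_sum, Finsupp.finsetSum_apply]
      refine Ideal.sum_mem _ fun l _ => ?_
      rw [smul_mul_assoc, map_smul, Finsupp.smul_apply, smul_eq_mul]
      exact Ideal.mul_mem_right _ _ (hone l)
    obtain ⟨j⟩ := c.index_nonempty
    have := h1 j
    rw [one_mul, Module.Basis.repr_self, Finsupp.single_eq_same] at this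
    exact (IsLocalRing.maximalIdeal.isMaximal R).ne_top (Ideal.eq_top_of_isUnit_mem _ this isUnit_one)
  have hzz : z * z = algebraMap R _ (a * (1 - 4 * d)) := by
    calc z * z = ι Q e * (ζ * ι Q e) * ζ := by rw [hz]; simp only [mul_assoc]
      _ = (ι Q e * ι Q e) * (ζ * ζ) := by rw [hcomm]; simp only [mul_assoc]
      _ = _ := by rw [hee, hζζ, map_mul]
  have hzodd : z ∈ evenOdd Q 1 := by
    simpa [hz] using SetLike.mul_mem_graded (ι_mem_evenOdd_one Q e) hζev
  have hzstar : star z = ((-1 : R) ^ (k + 1)) • z := by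
    have hsmap : ∀ y : CliffordAlgebra qW, star (CliffordAlgebra.map inc y) = CliffordAlgebra.map inc (star y) := by
      intro y
      induction y using CliffordAlgebra.left_induction with
      | algebraMap r => rw [AlgHom.commutes, star_algebraMap, star_algebraMap, AlgHom.commutes]
      | add c d hc hd => rw [map_add, star_add, star_add, hc, hd, map_add]
      | ι_mul c d hc =>
        rw [map_mul, map_apply_ι, star_mul, star_mul, hc, star_ι, star_ι, map_mul, map_neg, map_apply_ι]
    rw [hz, star_mul, hζ, hsmap, hstar, map_smul, ← hζ, star_ι, mul_neg, smul_mul_assoc, ← heζ, pow_succ,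
      mul_neg_one, neg_smul]
  -- the even part is a Clifford algebra of even rank
  let q' : QuadraticForm R W := (-a) • qW
  have hreg' : QuadGrp.IsRegular q' := by
    haveI := Module.Free.of_basis bW
    refine isRegular_of_isUnit_det bW ?_
    have : QuadGrpLib.polarMat bW q' = (-a) • QuadGrpLib.polarMat bW qW := by
      ext i j
      show QuadraticMap.polar q' (bW i) (bW j) = -a * QuadraticMap.polar qW (bW i) (bW j)
      simp only [QuadraticMap.polar, q', QuadraticMap.smul_apply, smul_eq_mul]; ring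
    rw [this, Matrix.det_smul]
    exact (hunit.neg.pow _).mul (QuadGrpLib.isUnit_det_polarMat bW qW hreg)
  obtain ⟨η', hη'⟩ := exists_eta k q' bW hreg'
  let ψ : CliffordAlgebra q' →ₐ[R] CliffordAlgebra.even Q :=
    CliffordAlgebra.lift q' ⟨
      { toFun := fun w => ⟨ι Q e * ι Q (w : M), ι_mul_ι_mem_evenOdd_zero Q e _⟩
        map_add' := fun x y => Subtype.ext (by simp [mul_add])
        map_smul' := fun r x => Subtype.ext (by simp) }, fun w => Subtype.ext (by
          show ι Q e * ι Q (w : M) * (ι Q e * ι Q (w : M)) = algebraMap R _ (-a * qW w)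
          rw [mul_assoc, ← mul_assoc (ι Q (w : M)), show ι Q (w : M) * ι Q e = -(ι Q e * ι Q (w : M)) by
            rw [hew, neg_neg], neg_mul, mul_neg, ← mul_assoc, ← mul_assoc, hee, mul_assoc, ι_sq_scalar, ← map_mul,
            ← map_neg, neg_mul]
          rfl)⟩
  let pr : M →ₗ[R] W := (LinearMap.id - τ.smulRight e).codRestrict W (fun x => by simp [W, hτ])
  let L : M →ₗ[R] CliffordAlgebra q' := (ι q').comp pr
  let T : M →ₗ[R] CliffordAlgebra q' := (Algebra.linearMap R _).comp (a • τ)
  have hqd : ∀ x : M, Q x = a * τ x * τ x + qW (pr x) := by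
    intro x
    have hx : x = τ x • e + (pr x : M) := by simp [pr]
    conv_lhs => rw [hx, QuadraticMap.map_add Q, QuadraticMap.map_smul, QuadraticMap.polar_smul_left,
      horth _ (LinearMap.mem_ker.mp (pr x).2), smul_zero, add_zero]
    simp only [smul_eq_mul, qW, QuadraticMap.comp_apply, Submodule.subtype_apply]
    rw [ha]; ring
  let f : CliffordAlgebra.EvenHom Q (CliffordAlgebra q') :=
    { bilin := ai • (LinearMap.mul R (CliffordAlgebra q')).compl₁₂ (T - L) (T + L)
      contract := fun x => by
        show ai • ((algebraMap R _ (a * τ x) - ι q' (pr x)) * (algebraMap R _ (a * τ x) + ι q' (pr x))) = _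
        rw [sub_mul, mul_add, mul_add, ι_sq_scalar, ← Algebra.commutes (a * τ x) (ι q' (pr x)),
          show ∀ X Y Z : CliffordAlgebra q', X + Y - (Y + Z) = X - Z from fun X Y Z => by abel, ← map_mul, ← map_sub, Algebra.smul_def, ← map_mul, hqd]
        congr 1
        show ai * (a * τ x * (a * τ x) - -a * qW (pr x)) = _
        linear_combination (a * τ x * τ x + qW (pr x)) * hai
      contract_mid := fun x y w => by
        show ai • ((algebraMap R _ (a * τ x) - ι q' (pr x)) * (algebraMap R _ (a * τ y) + ι q' (pr y))) *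
            ai • ((algebraMap R _ (a * τ y) - ι q' (pr y)) * (algebraMap R _ (a * τ w) + ι q' (pr w))) =
          Q y • ai • ((algebraMap R _ (a * τ x) - ι q' (pr x)) * (algebraMap R _ (a * τ w) + ι q' (pr w)))
        set X := algebraMap R (CliffordAlgebra q') (a * τ x) - ι q' (pr x)
        set Z := algebraMap R (CliffordAlgebra q') (a * τ w) + ι q' (pr w)
        have hmid : (algebraMap R (CliffordAlgebra q') (a * τ y) + ι q' (pr y)) *
            (algebraMap R _ (a * τ y) - ι q' (pr y)) = algebraMap R _ (a * Q y) := by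
          rw [add_mul, mul_sub, mul_sub, ι_sq_scalar, ← Algebra.commutes (a * τ y) (ι q' (pr y)),
            sub_add_sub_cancel, ← map_mul, ← map_sub, hqd]
          congr 1
          show a * τ y * (a * τ y) - -a * qW (pr y) = _
          ring
        rw [smul_mul_smul_comm, mul_assoc X, ← mul_assoc (_ + _) (_ - _) Z, hmid, ← Algebra.smul_def, mul_smul_comm,
          smul_smul, smul_smul]
        congr 1
        linear_combination (ai * Q y) * hai }
  let φ : CliffordAlgebra.even Q →ₐ[R] CliffordAlgebra q' := CliffordAlgebra.even.lift Q f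
  have hφψ : ∀ y, φ (ψ y) = y := by
    intro y
    rw [← AlgHom.comp_apply]
    refine AlgHom.congr_fun (CliffordAlgebra.hom_ext (g := AlgHom.id R _) (LinearMap.ext fun w => ?_)) y
    show φ (ψ (ι q' w)) = ι q' w
    simp only [ψ, CliffordAlgebra.lift_ι_apply, LinearMap.coe_mk, AddHom.coe_mk]
    show φ ((CliffordAlgebra.even.ι Q).bilin e (w : M)) = _
    rw [show φ ((CliffordAlgebra.even.ι Q).bilin e (w : M)) = f.bilin e (w : M) from CliffordAlgebra.even.lift_ι Q f _ _]
    show ai • ((algebraMap R _ (a * τ e) - ι q' (pr e)) * (algebraMap R _ (a * τ (w : M)) + ι q' (pr (w : M)))) = _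
    rw [show pr e = 0 from Subtype.ext (by simp [pr, hτ]), show pr (w : M) = w from Subtype.ext (by
      simp [pr, LinearMap.mem_ker.mp w.2]), LinearMap.mem_ker.mp w.2, hτ, map_zero, sub_zero, mul_zero, map_zero,
      zero_add, ← Algebra.smul_def, smul_smul, mul_one, hai, one_smul]
  have hψφ : ∀ y, ψ (φ y) = y := by
    intro y
    rw [← AlgHom.comp_apply]
    refine AlgHom.congr_fun (φ₂ := AlgHom.id R _) (CliffordAlgebra.even.algHom_ext Q
      (CliffordAlgebra.EvenHom.ext (LinearMap.ext₂ fun x w => Subtype.ext ?_))) y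
    show ((ψ (φ ((CliffordAlgebra.even.ι Q).bilin x w))) : CliffordAlgebra Q) = ι Q x * ι Q w
    rw [show φ ((CliffordAlgebra.even.ι Q).bilin x w) = f.bilin x w from CliffordAlgebra.even.lift_ι Q f _ _]
    show ((ψ (ai • ((algebraMap R _ (a * τ x) - ι q' (pr x)) * (algebraMap R _ (a * τ w) + ι q' (pr w))))) :
      CliffordAlgebra Q) = _
    have hpsi : ∀ w : W, ((ψ (ι q' w)) : CliffordAlgebra Q) = ι Q e * ι Q (w : M) := fun w => by simp [ψ]
    rw [map_smul, map_mul, map_sub, map_add, AlgHom.commutes, AlgHom.commutes]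
    simp only [Subalgebra.coe_smul, MulMemClass.coe_mul, AddSubgroupClass.coe_sub, AddMemClass.coe_add,
      Subalgebra.coe_algebraMap, hpsi]
    have hl : algebraMap R (CliffordAlgebra Q) (a * τ x) - ι Q e * ι Q (pr x : M) = ι Q x * ι Q e := by
      have : ι Q x = τ x • ι Q e + ι Q (pr x : M) := by rw [← map_smul, ← map_add]; congr 1; simp [pr]
      rw [this, add_mul, smul_mul_assoc, hee, hew, sub_neg_eq_add, Algebra.smul_def, ← map_mul (algebraMap R (CliffordAlgebra Q)), mul_comm a]
    have hr : algebraMap R (CliffordAlgebra Q) (a * τ w) + ι Q e * ι Q (pr w : M) = ι Q e * ι Q w := by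
      have : ι Q w = τ w • ι Q e + ι Q (pr w : M) := by rw [← map_smul, ← map_add]; congr 1; simp [pr]
      rw [this, mul_add, mul_smul_comm, hee, Algebra.smul_def, ← map_mul (algebraMap R (CliffordAlgebra Q)), mul_comm a]
    rw [hl, hr, mul_assoc, ← mul_assoc (ι Q e), hee, ← Algebra.smul_def, mul_smul_comm, smul_smul, hai, one_smul]
  refine ⟨⟨z, a * (1 - 4 * d), hzodd, hzall, hunit.mul hδ, hzz, hzstar⟩, fun x hx hxc => ?_, fun θ hθ => ?_⟩
  · obtain ⟨r, hr⟩ := hη'.center_eq bW hreg' (φ ⟨x, hx⟩) fun v => by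
      rw [← hφψ (ι q' v), ← map_mul, ← map_mul]
      congr 1
      exact Subtype.ext (hxc _ (ψ (ι q' v)).2).symm
    refine ⟨r, ?_⟩
    have := congrArg (fun t => (ψ t : CliffordAlgebra Q)) hr
    simpa [hψφ] using this
  · let θ0 : CliffordAlgebra.even Q →ₐ[R] CliffordAlgebra.even Q :=
      (θ.comp (CliffordAlgebra.even Q).val).codRestrict _ fun y => hθ _ y.2
    obtain ⟨u, hu⟩ := hη'.exists_unit_algHom bW hreg' (φ.comp (θ0.comp ψ))
    let U : (CliffordAlgebra Q)ˣ :=
      Units.map ((CliffordAlgebra.even Q).val.comp ψ : CliffordAlgebra q' →* CliffordAlgebra Q) u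
    refine ⟨U, (ψ u).2, fun y hy => ?_⟩
    have h := congrArg (fun t => (ψ t : CliffordAlgebra Q)) (hu (φ ⟨y, hy⟩))
    simp only [map_mul, AlgHom.comp_apply, hψφ, MulMemClass.coe_mul] at h
    exact h

theorem exists_oddData [IsLocalRing R] {k : ℕ} (b : Module.Basis (Fin (2 * k + 1)) R M)
    (hQ : QuadGrp.IsSemiregular b (LinearEquiv.refl R R) Q) : OddData Q k :=
  (exists_oddFrame b hQ).some.oddData

end QuadCliff
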