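import Groth.Agent.QuadCliff.Odd
import Mathlib.Tactic

/-! Consequences of the structure of Clifford algebras of odd rank. -/

namespace QuadCliff

open CliffordAlgebra TensorProduct

universe u v

variable {R : Type u} [CommRing R] {M : Type v} [AddCommGroup M] [Module R M] {Q : QuadraticForm R M}

theorem mul_comm_of_ι {c : CliffordAlgebra Q} (h : ∀ v, ι Q v * c = c * ι Q v) (x : CliffordAlgebra Q) :
    x * c = c * x := by
  induction x using CliffordAlgebra.left_induction with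
  | algebraMap r => exact Algebra.commutes r c
  | add x y hx hy => rw [add_mul, mul_add, hx, hy]
  | ι_mul y a ih => rw [mul_assoc, ih, ← mul_assoc, h, mul_assoc]

theorem inv_mem_even {u : (CliffordAlgebra Q)ˣ} (hu : (u : CliffordAlgebra Q) ∈ evenOdd Q 0) :
    (↑u⁻¹ : CliffordAlgebra Q) ∈ evenOdd Q 0 := by
  obtain ⟨w0, h0, w1, h1, he⟩ := exists_decomp (↑u⁻¹ : CliffordAlgebra Q)
  have hone : (u : CliffordAlgebra Q) * w0 + u * w1 = 1 + 0 := by
    rw [add_zero, ← mul_add, he, Units.mul_inv]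
  have h10 : (u : CliffordAlgebra Q) * w0 ∈ evenOdd Q 0 := by simpa using SetLike.mul_mem_graded hu h0
  have h11 : (u : CliffordAlgebra Q) * w1 ∈ evenOdd Q 1 := by simpa using SetLike.mul_mem_graded hu h1
  have := (decomp_unique h10 (SetLike.one_mem_graded _) h11 (Submodule.zero_mem _) hone).2
  rw [u.isUnit.mul_right_eq_zero.mp this, add_zero] at he
  rwa [← he]

namespace OddData

variable {k : ℕ} (H : OddData Q k) {z : CliffordAlgebra Q} {Δ : R}
  (hzo : z ∈ evenOdd Q 1) (hzc : ∀ x, z * x = x * z) (hΔ : IsUnit Δ) (hzz : z * z = algebraMap R _ Δ)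

include hzz hΔ

omit H in
theorem isUnit_z : IsUnit z := by
  obtain ⟨Δi, hΔi⟩ := hΔ.exists_left_inv
  refine ⟨⟨z, Δi • z, ?_, ?_⟩, rfl⟩
  · rw [mul_smul_comm, hzz, Algebra.smul_def, ← map_mul, hΔi, map_one]
  · rw [smul_mul_assoc, hzz, Algebra.smul_def, ← map_mul, hΔi, map_one]

include hzo hzc

omit H in
/-- An odd element is `z` times an even one. -/
theorem exists_even_factor {x : CliffordAlgebra Q} (hx : x ∈ evenOdd Q 1) :
    ∃ y ∈ evenOdd Q 0, x = z * y := by
  obtain ⟨Δi, hΔi⟩ := hΔ.exists_left_inv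
  refine ⟨Δi • (z * x), Submodule.smul_mem _ _ (by
    simpa [show (1 + 1 : ZMod 2) = 0 by decide] using SetLike.mul_mem_graded hzo hx), ?_⟩
  rw [mul_smul_comm, ← mul_assoc, hzz, ← Algebra.smul_def, smul_smul, hΔi, one_smul]

omit H in
/-- Commuting with `z` and the even part is commuting with everything. -/
theorem comm_all {c : CliffordAlgebra Q} (hcz : z * c = c * z) (hc : ∀ y ∈ evenOdd Q 0, y * c = c * y)
    (x : CliffordAlgebra Q) : x * c = c * x := by
  refine mul_comm_of_ι (fun v => ?_) x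
  obtain ⟨y, hy, hv⟩ := exists_even_factor hzo hzc hΔ hzz (ι_mem_evenOdd_one Q v)
  rw [hv, mul_assoc, hc y hy, ← mul_assoc, hcz, mul_assoc]

include H

theorem center_mem {x : CliffordAlgebra Q} (hx : ∀ y, y * x = x * y) :
    ∃ r s : R, x = algebraMap R _ r + s • z := by
  obtain ⟨x0, h0, x1, h1, rfl⟩ := exists_decomp x
  have hsep : ∀ y ∈ evenOdd Q 0, y * x0 = x0 * y ∧ y * x1 = x1 * y := fun y hy => by
    have h := hx y
    rw [mul_add, add_mul] at h
    exact decomp_unique (by simpa using SetLike.mul_mem_graded hy h0) (by simpa using SetLike.mul_mem_graded h0 hy)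
      (by simpa using SetLike.mul_mem_graded hy h1) (by simpa using SetLike.mul_mem_graded h1 hy) h
  obtain ⟨r, hr⟩ := H.even_center x0 h0 fun y hy => ((hsep y hy).1).symm
  obtain ⟨y1, hy1, rfl⟩ := exists_even_factor hzo hzc hΔ hzz h1
  obtain ⟨s, hs⟩ := H.even_center y1 hy1 fun y hy => by
    have := (hsep y hy).2
    rw [← mul_assoc, ← hzc y, mul_assoc, mul_assoc] at this
    exact ((isUnit_z hΔ hzz).mul_left_cancel this).symm
  exact ⟨r, s, by rw [hr, hs, ← Algebra.commutes, ← Algebra.smul_def]⟩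

theorem center_odd {x : CliffordAlgebra Q} (hx : ∀ y, y * x = x * y) (h1 : x ∈ evenOdd Q 1) :
    ∃ s : R, x = s • z := by
  obtain ⟨r, s, hrs⟩ := H.center_mem hzo hzc hΔ hzz hx
  refine ⟨s, ?_⟩
  have := decomp_unique (Submodule.zero_mem _) (SetLike.algebraMap_mem_graded (evenOdd Q) r) h1
    (Submodule.smul_mem _ s hzo) (by rw [zero_add]; exact hrs)
  exact this.2

/-- An isometry maps `z` to `r z`, with `r` the determinant, and is inner on the even part. -/
theorem cmap_eq {n : ℕ} (hn : Odd n) (b : Module.Basis (Fin n) R M) (g : M ≃ₗ[R] M) (hg : g ∈ QuadGrp.O Q) :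
    cmap g hg z = LinearMap.det g.toLinearMap • z ∧
      ∃ u : (CliffordAlgebra Q)ˣ, (u : CliffordAlgebra Q) ∈ evenOdd Q 0 ∧
        ∀ y ∈ evenOdd Q 0, (u : CliffordAlgebra Q) * y = cmap g hg y * u := by
  obtain ⟨u, hu0, hu⟩ := H.inner (cmap g hg) fun y hy => cmap_mem_evenOdd g hg hy
  refine ⟨?_, u, hu0, hu⟩
  obtain ⟨r, hr⟩ := H.center_odd hzo hzc hΔ hzz (x := cmap g hg z) (fun y => by
    have hh := congrArg (cmap g hg) (hzc (cmap g⁻¹ ((QuadGrp.O Q).inv_mem hg) y))
    rw [map_mul, map_mul, cmap_comp] at hh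
    have : cmap (g * g⁻¹) ((QuadGrp.O Q).mul_mem hg ((QuadGrp.O Q).inv_mem hg)) y = y := by
      have e : cmap (g * g⁻¹) ((QuadGrp.O Q).mul_mem hg ((QuadGrp.O Q).inv_mem hg)) = AlgHom.id R _ :=
        CliffordAlgebra.hom_ext (LinearMap.ext fun v => by simp [cmap, QuadGrp.isometryOfMem])
      rw [e]; rfl
    rw [this] at hh; exact hh.symm) (cmap_mem_evenOdd g hg hzo)
  suffices r = LinearMap.det g.toLinearMap by rw [hr, this]
  obtain ⟨x, hxm, hx⟩ := exists_topT_eq_one b (Q := Q)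
  rw [(ZMod.natCast_eq_one_iff_odd).mpr hn] at hxm
  obtain ⟨y, hy, rfl⟩ := exists_even_factor hzo hzc hΔ hzz hxm
  have h : topT b (cmap g hg (z * y)) = r • topT b (z * y) := by
    calc topT b (cmap g hg (z * y)) = r • topT b (z * cmap g hg y) := by
          rw [map_mul, hr, smul_mul_assoc, map_smul]
      _ = r • topT b ((u : CliffordAlgebra Q) * (z * y * ↑u⁻¹)) := by
          congr 2
          rw [← mul_assoc, ← mul_assoc, ← hzc (u : CliffordAlgebra Q), mul_assoc z (u : CliffordAlgebra Q) y, hu y hy,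
            mul_assoc z, mul_assoc (cmap g hg y), Units.mul_inv, mul_one]
      _ = r • topT b (z * y * ↑u⁻¹ * (u : CliffordAlgebra Q)) := by rw [topT_comm_even b hu0]
      _ = _ := by rw [mul_assoc, Units.inv_mul, mul_one]
  rw [topT_cmap, hx] at h
  refine (algebraMap_injective (Q := Q) b ?_).symm
  rw [Algebra.algebraMap_eq_smul_one, Algebra.algebraMap_eq_smul_one, h]

omit H in
theorem cmap_z {g : M ≃ₗ[R] M} (hg : g ∈ QuadGrp.O Q) {u : (CliffordAlgebra Q)ˣ}
    (hu : ∀ v, (u : CliffordAlgebra Q) * ι Q v = ι Q (g v) * u) : cmap g hg z = z := by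
  refine u.isUnit.mul_right_cancel ?_
  rw [← conj_cmap hg hu, hzc]

theorem det_of_conj {n : ℕ} (hn : Odd n) (b : Module.Basis (Fin n) R M) (g : M ≃ₗ[R] M) (hg : g ∈ QuadGrp.O Q)
    {u : (CliffordAlgebra Q)ˣ} (hu : ∀ v, (u : CliffordAlgebra Q) * ι Q v = ι Q (g v) * u) :
    LinearMap.det g.toLinearMap = 1 := by
  obtain ⟨h1, -⟩ := H.cmap_eq hzo hzc hΔ hzz hn b g hg
  rw [cmap_z hzo hzc hΔ hzz hg hu] at h1
  obtain ⟨zu, hzu⟩ := isUnit_z hΔ hzz
  refine (algebraMap_injective (Q := Q) b ?_).symm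
  rw [map_one, Algebra.algebraMap_eq_smul_one, ← Units.mul_inv zu, hzu, ← smul_mul_assoc, ← h1]

theorem exists_even_conj {n : ℕ} (hn : Odd n) (b : Module.Basis (Fin n) R M) (g : M ≃ₗ[R] M) (hg : g ∈ QuadGrp.O Q)
    (hd : LinearMap.det g.toLinearMap = 1) :
    ∃ u : (CliffordAlgebra Q)ˣ, (u : CliffordAlgebra Q) ∈ evenOdd Q 0 ∧
      ∀ v, (u : CliffordAlgebra Q) * ι Q v = ι Q (g v) * u := by
  obtain ⟨h1, u, hu0, hu⟩ := H.cmap_eq hzo hzc hΔ hzz hn b g hg
  rw [hd, one_smul] at h1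
  refine ⟨u, hu0, fun v => ?_⟩
  obtain ⟨y, hy, hv⟩ := exists_even_factor hzo hzc hΔ hzz (ι_mem_evenOdd_one Q v)
  rw [← cmap_ι g hg, hv, map_mul, h1, ← mul_assoc, ← hzc (u : CliffordAlgebra Q), mul_assoc, hu y hy, mul_assoc]

theorem exists_factor {n : ℕ} (hn : Odd n) (b : Module.Basis (Fin n) R M) (g : M ≃ₗ[R] M) (hg : g ∈ QuadGrp.O Q)
    {u : (CliffordAlgebra Q)ˣ} (hu : ∀ v, (u : CliffordAlgebra Q) * ι Q v = ι Q (g v) * u) :
    ∃ (c u0 : (CliffordAlgebra Q)ˣ), (∀ x, x * (c : CliffordAlgebra Q) = c * x) ∧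
      (u0 : CliffordAlgebra Q) ∈ evenOdd Q 0 ∧
      (∀ v, (u0 : CliffordAlgebra Q) * ι Q v = ι Q (g v) * u0) ∧ (u : CliffordAlgebra Q) = c * u0 := by
  obtain ⟨u0, hu0, hu0c⟩ := H.exists_even_conj hzo hzc hΔ hzz hn b g hg (H.det_of_conj hzo hzc hΔ hzz hn b g hg hu)
  have hall : ∀ x, x * ((↑u0⁻¹ : CliffordAlgebra Q) * u) = (↑u0⁻¹ * u) * x := fun x => by
    refine mul_comm_of_ι (fun v => u0.isUnit.mul_left_cancel ?_) x
    rw [← mul_assoc, hu0c, mul_assoc, ← mul_assoc (u0 : CliffordAlgebra Q) _ (ι Q v), Units.mul_inv_cancel_left,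
      hu]
  refine ⟨u0⁻¹ * u, u0, fun x => by rw [Units.val_mul]; exact hall x, hu0, hu0c, ?_⟩
  rw [Units.val_mul, ← hall (u0 : CliffordAlgebra Q), Units.mul_inv_cancel_left]

end OddData

section BC

variable [Module.Free R M]

theorem toBC_star (A : Type u) [CommRing A] [Algebra R A] (x : CliffordAlgebra Q) :
    star (toBC A Q x) = toBC A Q (star x) := by
  induction x using CliffordAlgebra.left_induction with
  | algebraMap r =>
    rw [AlgHom.commutes, star_algebraMap, AlgHom.commutes, IsScalarTower.algebraMap_apply R A, star_algebraMap]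
  | add x y hx hy => rw [map_add, star_add, star_add, hx, hy, map_add]
  | ι_mul x a hx => rw [map_mul, toBC_ι, star_mul, star_mul, hx, star_ι, star_ι, map_mul, map_neg, toBC_ι]

theorem isSemiregular_baseChange (A : Type u) [CommRing A] [Algebra R A] {n : ℕ} (b : Module.Basis (Fin n) R M)
    (hQ : QuadGrp.IsSemiregular b (LinearEquiv.refl R R) Q) :
    QuadGrp.IsSemiregular (b.baseChange A) (LinearEquiv.refl A A) (QuadGrp.baseChangeForm A Q) := by
  show IsUnit _
  rw [QuadGrpLib.halfDisc_baseChange]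
  exact hQ.map _

theorem det_baseChange (A : Type u) [CommRing A] [Algebra R A] {n : ℕ} (b : Module.Basis (Fin n) R M)
    (g : M ≃ₗ[R] M) :
    LinearMap.det (g.baseChange R A M M).toLinearMap = algebraMap R A (LinearMap.det g.toLinearMap) := by
  rw [← LinearMap.det_toMatrix b, ← LinearMap.det_toMatrix (b.baseChange A), RingHom.map_det]
  congr 1
  ext i j
  simp [LinearMap.toMatrix_apply, Algebra.smul_def]

/-- Local homogeneity may be checked at the prime ideals. -/
theorem isLocHomog_of_forall_atPrime {n : ℕ} (b : Module.Basis (Fin n) R M) (u : (CliffordAlgebra Q)ˣ)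
    (h : ∀ (p : Ideal R) [p.IsPrime],
      toBC (Localization.AtPrime p) Q (u : CliffordAlgebra Q) ∈ evenOdd (QuadGrp.baseChangeForm _ Q) 0 ∨
      toBC (Localization.AtPrime p) Q (u : CliffordAlgebra Q) ∈ evenOdd (QuadGrp.baseChangeForm _ Q) 1) :
    QuadGrp.IsLocHomog Q (u : CliffordAlgebra Q) := by
  obtain ⟨u0, h0, u1, h1, hsum⟩ := exists_decomp (u : CliffordAlgebra Q)
  let I0 := LinearMap.ker (LinearMap.toSpanSingleton R (CliffordAlgebra Q) u1)
  let I1 := LinearMap.ker (LinearMap.toSpanSingleton R (CliffordAlgebra Q) u0)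
  have htop : I0 ⊔ I1 = ⊤ := by
    by_contra hne
    obtain ⟨p, hp, hle⟩ := Ideal.exists_le_maximal _ hne
    haveI := hp.isPrime
    rcases h p with h | h
    · obtain ⟨s, hs, hsx⟩ := exists_smul_eq_zero (Localization.AtPrime p) Q p.primeCompl (x := u1)
        (decomp_unique (toBC_mem_evenOdd _ _ h0) h (toBC_mem_evenOdd _ _ h1) (Submodule.zero_mem _)
          (by rw [add_zero, ← map_add, hsum])).2
      exact hs (hle (Submodule.mem_sup_left (show s ∈ I0 by simpa [I0] using hsx)))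
    · obtain ⟨s, hs, hsx⟩ := exists_smul_eq_zero (Localization.AtPrime p) Q p.primeCompl (x := u0)
        (decomp_unique (toBC_mem_evenOdd _ _ h0) (Submodule.zero_mem _) (toBC_mem_evenOdd _ _ h1) h
          (by rw [zero_add, ← map_add, hsum])).1
      exact hs (hle (Submodule.mem_sup_right (show s ∈ I1 by simpa [I1] using hsx)))
  obtain ⟨e, he, f, hf, hef⟩ := Submodule.mem_sup.mp (htop ▸ Submodule.mem_top : (1 : R) ∈ I0 ⊔ I1)
  have he' : e • u1 = 0 := by simpa [I0] using he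
  have hf' : f • u0 = 0 := by simpa [I1] using hf
  have hkill : (e * f) • (u : CliffordAlgebra Q) = 0 := by
    rw [← hsum, smul_add, mul_comm, mul_smul, mul_smul, he', smul_zero, add_zero, smul_comm, hf', smul_zero]
  have hef0 : e * f = 0 := by
    refine algebraMap_injective (Q := Q) b ?_
    rw [map_zero, Algebra.algebraMap_eq_smul_one, ← Units.mul_inv u, ← smul_mul_assoc, hkill, zero_mul]
  refine ⟨e, ?_, ?_, ?_⟩
  · show e * e = e
    linear_combination e * hef - hef0
  · rw [← hsum, smul_add, he', add_zero]; exact Submodule.smul_mem _ _ h0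
  · rw [show 1 - e = f by linear_combination -hef, ← hsum, smul_add, hf', zero_add]
    exact Submodule.smul_mem _ _ h1

end BC

end QuadCliff
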